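import Cfsg.Agent.Lib.TwoLength.PlaneCommute
import Cfsg.Agent.Lib.HallHigman.Linear
import Cfsg.Agent.Lib.FixedFree.BaseChange
import Cfsg.Agent.Lib.PLength.ExponentTwo
import Cfsg.Agent.Lib.PLocal.Section
import Mathlib.Algebra.Module.ZMod
import Mathlib.LinearAlgebra.Charpoly.Basic

/-!
# Odd and even subgroups normalised by a plane element
-/

set_option autoImplicit false

namespace CfsgLib.TwoLength

open Subgroup Module Polynomial CfsgLib.HallHigman

universe u v

/-- The degree is at most one more than the rank of `T - 1`. -/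
theorem deg_le_finrank_range_add_one {K : Type u} [Field K] {W : Type v} [AddCommGroup W] [Module K W]
    [FiniteDimensional K W] (T : Module.End K W) :
    deg T ≤ finrank K (LinearMap.range (T - 1)) + 1 := by
  set U := LinearMap.range (T - 1)
  have hUinv : ∀ w ∈ U, T w ∈ U := by
    rintro _ ⟨w, rfl⟩
    refine ⟨T w, ?_⟩
    simp only [LinearMap.sub_apply, Module.End.one_apply, map_sub]
  set f : Module.End K U := T.restrict hUinv
  have hmon := LinearMap.charpoly_monic f
  refine (deg_le_of_aeval_eq_zero (g := LinearMap.charpoly f * (X - C (1 : K)))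
    (mul_ne_zero hmon.ne_zero (X_sub_C_ne_zero 1)) (LinearMap.ext fun v => ?_)).trans ?_
  · rw [map_mul, map_sub, aeval_X, aeval_C, map_one, Module.End.mul_apply, LinearMap.zero_apply]
    have h1 := aeval_restrict_apply hUinv (LinearMap.charpoly f) ⟨(T - 1) v, v, rfl⟩
    rw [LinearMap.aeval_self_charpoly] at h1
    exact h1.symm
  · rw [natDegree_mul hmon.ne_zero (X_sub_C_ne_zero 1), natDegree_X_sub_C, LinearMap.charpoly_natDegree]

variable {S : Type u} [CommGroup S] [Finite S] {C : Type v} [CommGroup C] {B : Pairing S C}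
  {q : ℕ} [hq : Fact q.Prime] {a : ℕ} {z : MulAut S}

/-- The displacements of a plane element lie in its plane. -/
theorem IsPlane.apply_div_mem (h : IsPlane B a q z) (s : S) :
    z s * s⁻¹ ∈ disp (IsPlane.invol z a) := by
  obtain ⟨c, hc, d, hd, rfl⟩ := exists_decomp h.odd h.invol_sq s
  rw [map_mul, h.apply_fixed hc, mul_inv, mul_mul_mul_comm, mul_inv_cancel, one_mul]
  exact mul_mem (apply_mem_disp (Commute.self_pow z _).eq hd) (inv_mem hd)

set_option maxHeartbeats 1000000 in
/-- The involution of a plane element centralises every subgroup of odd order prime to `q`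
normalised by the element. -/
theorem IsPlane.commute_of_coprime (h : IsPlane B a q z) {r : ℕ} (hr : r.Prime) (hr2 : r ≠ 2)
    (hrq : r ≠ q) {R : Subgroup (MulAut S)} (hR : IsPGroup r R)
    (hzR : z ∈ normalizer (R : Set (MulAut S))) :
    ∀ g ∈ R, IsPlane.invol z a * g = g * IsPlane.invol z a := by
  classical
  by_contra hc
  push Not at hc
  obtain ⟨g, hg, hne⟩ := hc
  have hexp : ∀ s : Additive S, q • s = 0 := fun s => Additive.toMul.injective (h.exp s.toMul)
  have hmod : Module (ZMod q) (Additive S) := AddCommGroup.zmodModule hexp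
  let f : MulAut S → Module.End (ZMod q) (Additive S) := fun g =>
    (AddMonoidHom.mk' (fun s : Additive S => Additive.ofMul (g s.toMul))
      fun s t => congrArg Additive.ofMul (map_mul g s.toMul t.toMul)).toZModLinearMap q
  have hfapp : ∀ (g : MulAut S) (s : Additive S), f g s = Additive.ofMul (g s.toMul) := fun g s => rfl
  have hf1 : f 1 = 1 := LinearMap.ext fun s => by rw [hfapp, MulAut.one_apply]; rfl
  have hf2 : ∀ g g', f (g * g') = f g * f g' := fun g g' => LinearMap.ext fun s => by
    rw [Module.End.mul_apply, hfapp, hfapp, hfapp, MulAut.mul_apply]; rfl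
  let ρ : Representation (ZMod q) (MulAut S) (Additive S) := ⟨⟨f, hf1⟩, hf2⟩
  have hρinj : Function.Injective ρ := fun g g' e => MulEquiv.ext fun s =>
    Additive.ofMul.injective (congrArg (fun f : Module.End (ZMod q) (Additive S) => f (Additive.ofMul s)) e)
  have : Module.Finite (ZMod q) (Additive S) := Module.Finite.of_finite
  let K := AlgebraicClosure (ZMod q)
  let σ := FixedFree.extend K ρ
  set W := LinearMap.range (ρ z - 1)
  have hW : finrank (ZMod q) W ≤ 2 := by
    have hsub : (W : Set (Additive S)) ⊆ Additive.ofMul '' (disp (IsPlane.invol z a) : Set S) := by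
      rintro _ ⟨s, rfl⟩
      exact ⟨z s.toMul * s.toMul⁻¹, h.apply_div_mem _, (sub_eq_add_neg _ _).symm⟩
    have hcard : Nat.card W ≤ q ^ 2 := by
      have h1 := Nat.card_mono (Set.toFinite _) hsub
      rw [Nat.card_image_of_injective Additive.ofMul.injective] at h1
      exact h1.trans h.card_disp.le
    rw [Module.natCard_eq_pow_finrank (K := ZMod q), Nat.card_zmod] at hcard
    exact (Nat.pow_le_pow_iff_right hq.out.one_lt).1 hcard
  have hdeg : HallHigman.deg (σ z) ≤ 3 := by
    set U := LinearMap.range (σ z - 1)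
    have hU : finrank K U ≤ 2 := by
      have h1 : σ z - 1 = (ρ z - 1).baseChange K := by
        rw [LinearMap.baseChange_sub, Module.End.one_eq_id, Module.End.one_eq_id, LinearMap.baseChange_id]
        rfl
      have h2 := FixedFree.finrank_range_baseChange_le (K := K) (ρ z - 1)
      rw [← h1] at h2
      exact h2.trans hW
    exact (deg_le_finrank_range_add_one (σ z)).trans (Nat.succ_le_succ hU)
  have hrK : (r : K) ≠ 0 := fun e => hrq ((Nat.prime_dvd_prime_iff_eq hq.out hr).1
    ((CharP.cast_eq_zero_iff K q r).1 e)).symm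
  have ha1 : 1 ≤ a := le_trans one_le_two h.two_le
  have hb := HallHigman.boundHolds (K := K) Nat.prime_two hr hr2.symm hrK _ σ rfl R z a hR hzR
    (by rw [h.pow_eq_one, map_one]) ha1 ⟨g, hg, fun e => hne (hρinj ((FixedFree.extend_eq_iff K ρ _ _).1 e))⟩
  rcases hb with h1 | ⟨a', b, ha', haa, hb1, hab, hle, -⟩
  · have := le_trans h1 hdeg
    have h4 : 2 ^ 2 ≤ 2 ^ a := Nat.pow_le_pow_right two_pos h.two_le
    omega
  · have h3 := le_trans hle hdeg
    have hr3 : 3 ≤ r := by have := hr.two_le; omega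
    have hrb : r ≤ r ^ b := le_self_pow₀ (by omega) (by omega)
    obtain hlt | rfl := lt_or_eq_of_le haa
    · have h5 : 2 ^ 1 ≤ 2 ^ (a - a') := Nat.pow_le_pow_right two_pos (by omega)
      have h6 := Nat.mul_le_mul h5 (hr3.trans hrb)
      omega
    · rw [Nat.sub_self, pow_zero, one_mul] at h3
      have := h.card_q
      omega

/-- A plane element commutes modulo squares with a `2`-group it normalises. -/
theorem IsPlane.invol_mem_frattini (h : IsPlane B a q z) {T : Subgroup (MulAut S)}
    (hT : IsPGroup 2 T) (hTB : T ≤ B.isom) (hzT : z ∈ normalizer (T : Set (MulAut S))) {t : MulAut S}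
    (ht : t ∈ T) :
    IsPlane.invol z a * t * (IsPlane.invol z a)⁻¹ * t⁻¹ ∈ (frattini T).map T.subtype := by
  have hzp : IsPGroup 2 (zpowers z) := by
    intro g
    obtain ⟨i, hi⟩ := mem_zpowers_iff.1 g.2
    refine ⟨a, Subtype.ext ?_⟩
    push_cast
    rw [← hi, ← zpow_natCast, ← zpow_mul, mul_comm, zpow_mul, zpow_natCast, h.pow_eq_one, one_zpow]
  have hT' : IsPGroup 2 (T ⊔ zpowers z : Subgroup (MulAut S)) :=
    IsPGroup.to_sup_of_normal_left' hT hzp (zpowers_le.2 hzT)
  have hc := h.commute_conj _ hT' (sup_le hTB (zpowers_le.2 h.preserves)) (mem_sup_right (mem_zpowers z))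
    (mem_sup_left ht)
  set w := z ^ 2 ^ (a - 2)
  have hy : IsPlane.invol z a = w * w := by
    rw [IsPlane.invol, ← pow_add, ← two_mul, ← pow_succ']
    congr 2
    have := h.two_le
    omega
  have hwc : Commute w (t * w * t⁻¹) := by
    rw [← conj_pow]
    exact (Commute.pow_pow hc _ _)
  set c := w * t * w⁻¹ * t⁻¹ with hcdef
  have hcT : c ∈ T := mul_mem (conj_mem_of_mem_normalizer (pow_mem hzT _) ht) (inv_mem ht)
  have hwcc : Commute w c := by
    rw [show c = w * (t * w * t⁻¹)⁻¹ by rw [hcdef]; group]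
    exact (Commute.refl w).mul_right hwc.inv_right
  have e : IsPlane.invol z a * t * (IsPlane.invol z a)⁻¹ * t⁻¹ = c * c := by
    rw [hy, show w * w * t * (w * w)⁻¹ * t⁻¹ = w * c * w⁻¹ * c by rw [hcdef]; group, hwcc.eq,
      mul_inv_cancel_right]
  rw [e]
  exact ⟨⟨c, hcT⟩ ^ 2, StructC.pow_mem_frattini hT _, by rw [sq]; rfl⟩

/-- An element of odd order inverted by the involution of a plane element centralises every
`2`-group normalised by both. -/
theorem IsPlane.commute_of_inverted (h : IsPlane B a q z) {T : Subgroup (MulAut S)}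
    (hT : IsPGroup 2 T) (hTB : T ≤ B.isom) (hzT : z ∈ normalizer (T : Set (MulAut S))) {u : MulAut S}
    (huT : u ∈ normalizer (T : Set (MulAut S))) (hu : Odd (orderOf u))
    (hinv : IsPlane.invol z a * u * (IsPlane.invol z a)⁻¹ = u⁻¹) : ∀ t ∈ T, u * t = t * u := by
  set y := IsPlane.invol z a with hy
  set Φ := (frattini T).map T.subtype with hΦ
  have hΦT : Φ ≤ T := map_subtype_le _
  have hmove : ∀ g ∈ normalizer (T : Set (MulAut S)), ∀ f ∈ Φ, g * f * g⁻¹ ∈ Φ := by
    rintro g hg _ ⟨f, hf, rfl⟩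
    have h1 : (frattini T).map (T.normalizerMonoidHom ⟨g, hg⟩).toMonoidHom = frattini T :=
      characteristic_iff_map_eq.1 inferInstance _
    exact ⟨_, h1 ▸ mem_map_of_mem _ hf, rfl⟩
  let K : Subgroup (MulAut S) :=
    { carrier := {g | g ∈ normalizer (T : Set (MulAut S)) ∧ ∀ t ∈ T, g * t * g⁻¹ * t⁻¹ ∈ Φ}
      one_mem' := ⟨one_mem _, fun t _ => by simp⟩
      mul_mem' := fun {g g'} hg hg' => ⟨mul_mem hg.1 hg'.1, fun t ht => by
        rw [show g * g' * t * (g * g')⁻¹ * t⁻¹ =
          g * (g' * t * g'⁻¹ * t⁻¹) * g⁻¹ * (g * t * g⁻¹ * t⁻¹) by group]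
        exact mul_mem (hmove g hg.1 _ (hg'.2 t ht)) (hg.2 t ht)⟩
      inv_mem' := fun {g} hg => ⟨inv_mem hg.1, fun t ht => by
        have h1 := inv_mem (hmove g⁻¹ (inv_mem hg.1) _ (hg.2 _ ht))
        rw [inv_inv, show (g⁻¹ * (g * t * g⁻¹ * t⁻¹) * g)⁻¹ = g⁻¹ * t * g * t⁻¹ by group] at h1
        rwa [inv_inv]⟩ }
  have hyN : y ∈ normalizer (T : Set (MulAut S)) := pow_mem hzT _
  have hyK : y ∈ K := ⟨hyN, fun t ht => h.invol_mem_frattini hT hTB hzT ht⟩
  have hK : ∀ g ∈ normalizer (T : Set (MulAut S)), ∀ k ∈ K, g * k * g⁻¹ ∈ K := fun g hg k hk =>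
    ⟨mul_mem (mul_mem hg hk.1) (inv_mem hg), fun t ht => by
      have h1 := hmove g hg _ (hk.2 _ (conj_mem_of_mem_normalizer (inv_mem hg) ht))
      convert h1 using 1
      group⟩
  have h2 : u * u ∈ K := by
    have := mul_mem (hK u huT y hyK) (inv_mem hyK)
    have e : y * u⁻¹ * y⁻¹ = u := by
      rw [show y * u⁻¹ * y⁻¹ = (y * u * y⁻¹)⁻¹ by group, hinv, inv_inv]
    rwa [show u * y * u⁻¹ * y⁻¹ = u * (y * u⁻¹ * y⁻¹) by group, e] at this
  obtain ⟨k, hk⟩ := hu
  have huK : u ∈ K := by
    have e : u = (u * u) ^ (k + 1) := by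
      rw [← pow_two, ← pow_mul, show 2 * (k + 1) = orderOf u + 1 by omega, pow_succ, pow_orderOf_eq_one,
        one_mul]
    rw [e]
    exact pow_mem h2 _
  have hC := CfsgLib.PLocal.centralizes_of_trivial_on_frattini_quotient hT huT
    (by rw [Nat.coprime_two_right]; exact ⟨k, hk⟩) fun t ht => by
      have := (inv_mem huK).2 t ht
      have h1 := hmove t⁻¹ (inv_mem (le_normalizer ht)) _ this
      convert h1 using 1
      group
  exact fun t ht => (mem_centralizer_iff.1 hC t ht).symm

end CfsgLib.TwoLength
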