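import Cfsg.Agent.Lib.HallHigman.Linear
import Cfsg.Agent.Lib.Solvable.HallHigman
import Cfsg.Agent.Lib.OddLocal.NilpotentDerived
import Mathlib.GroupTheory.Sylow
import Mathlib.Data.ZMod.Basic

/-!
# Lifting tops into normalisers of Sylow subgroups
-/

set_option autoImplicit false

namespace CfsgLib.TwoLength

open Subgroup CfsgLib.HallHigman
open scoped Pointwise commutatorElement

universe w

variable {M : Type w} [Group M] [Finite M]

/-- A `2`-element is congruent modulo a normal subgroup to a `2`-element of any supplement. -/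
theorem exists_lift_two {e : ℕ} (hexp : ∀ (x : M) (k : ℕ), x ^ 2 ^ k = 1 → x ^ 2 ^ e = 1)
    {N A : Subgroup M} [A.Normal] (hNA : N ⊔ A = ⊤) {x : M} (hx : x ^ 2 ^ e = 1) :
    ∃ x' ∈ N, x' ^ 2 ^ e = 1 ∧ (x : M ⧸ A) = (x' : M ⧸ A) := by
  obtain ⟨n, hn, a, ha, hna⟩ : ∃ n ∈ N, ∃ a ∈ A, n * a = x := by
    have h1 : x ∈ ((N ⊔ A : Subgroup M) : Set M) := by rw [hNA]; trivial
    rw [mul_normal] at h1
    exact h1
  have hxn : (x : M ⧸ A) = (n : M ⧸ A) := by
    rw [← hna, QuotientGroup.mk_mul, (QuotientGroup.eq_one_iff a).2 ha, mul_one]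
  rcases Nat.eq_zero_or_pos e with rfl | he
  · exact ⟨1, one_mem _, one_pow _, by rw [pow_zero, pow_one] at hx; rw [hx]⟩
  obtain ⟨i, s, hs, hns⟩ := Nat.exists_eq_pow_mul_and_not_dvd (orderOf_pos n).ne' 2 (by norm_num)
  have hcop : s.Coprime (2 ^ e) :=
    (Nat.coprime_two_right.2 (Nat.not_even_iff_odd.1 fun h => hs h.two_dvd)).pow_right e
  obtain ⟨t, ht, ht1⟩ := Nat.exists_mul_mod_eq_one_of_coprime hcop (Nat.one_lt_two_pow he.ne')
  refine ⟨n ^ (s * t), pow_mem hn _, hexp _ i ?_, ?_⟩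
  · rw [← pow_mul, show s * t * 2 ^ i = 2 ^ i * s * t by ring, ← hns, pow_mul, pow_orderOf_eq_one, one_pow]
  · rw [QuotientGroup.mk_pow, ← hxn, ← QuotientGroup.mk_pow]
    congr 1
    rw [← Nat.div_add_mod (s * t) (2 ^ e), ht1, pow_add, pow_mul, hx, one_pow, one_mul, pow_one]

omit [Finite M] in
/-- An element squaring to one which is congruent to a centralising element centralises. -/
theorem commute_of_congr {r : ℕ} (hr : r.Prime) (hr2 : r ≠ 2) {R : Subgroup M} (hR : IsPGroup r R)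
    {y y' h : M} (hy : y ^ 2 = 1) (hyR : y ∈ normalizer (R : Set M)) (hh : h ∈ R) (e : y = h * y')
    (hc : ∀ s ∈ R, y' * s = s * y') : ∀ s ∈ R, y * s = s * y := by
  have hconj : ∀ s ∈ R, y * s * y⁻¹ = h * s * h⁻¹ := by
    intro s hs
    rw [e, show h * y' * s * (h * y')⁻¹ = h * (y' * s * y'⁻¹) * h⁻¹ by group, hc s hs,
      mul_inv_cancel_right]
  intro s hs
  have h2 : Commute (h ^ 2) s := by
    have h3 : y * (y * s * y⁻¹) * y⁻¹ = s := by
      rw [show y * (y * s * y⁻¹) * y⁻¹ = (y * y) * s * (y * y)⁻¹ by group, ← pow_two, hy]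
      group
    rw [hconj _ (conj_mem_of_mem_normalizer hyR hs), hconj s hs] at h3
    show h ^ 2 * s = s * h ^ 2
    rw [pow_two]
    calc h * h * s = h * (h * s * h⁻¹) * h⁻¹ * (h * h) := by group
      _ = s * (h * h) := by rw [h3]
  obtain ⟨k, hk⟩ := hR ⟨h, hh⟩
  have hk' : h ^ r ^ k = 1 := congrArg Subtype.val hk
  obtain ⟨l, hl⟩ := (hr.odd_of_ne_two hr2).pow (n := k)
  have hh1 : Commute h s := by
    have := h2.pow_left (l + 1)
    rwa [← pow_mul, show 2 * (l + 1) = r ^ k + 1 by omega, pow_succ, hk', one_mul] at this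
  calc y * s = y * s * y⁻¹ * y := by group
    _ = s * y := by rw [hconj s hs, hh1.eq, mul_inv_cancel_right]

/-- A Sylow subgroup of `A ⊓ L`, its normaliser in `L` covering `L` modulo `A`, itself covering every
`r`-section of `A`. -/
theorem exists_sylow_cover (r : ℕ) [Fact r.Prime] {A L : Subgroup M} [A.Normal] :
    ∃ R : Subgroup M, IsPGroup r R ∧ R ≤ A ⊓ L ∧ L ≤ (L ⊓ normalizer (R : Set M)) ⊔ A ∧
      ∀ {X : Type w} [Group X] (f : M →* X), IsPGroup r ((A ⊓ L).map f) → (A ⊓ L).map f ≤ R.map f := by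
  obtain ⟨P⟩ : Nonempty (Sylow r (A.subgroupOf L)) := inferInstance
  set R' : Subgroup L := (P : Subgroup (A.subgroupOf L)).map (A.subgroupOf L).subtype
  refine ⟨R'.map L.subtype, (P.2.map _).map _, ?_, ?_, ?_⟩
  · rintro _ ⟨_, ⟨s, -, rfl⟩, rfl⟩
    exact ⟨mem_subgroupOf.1 s.2, (s : L).2⟩
  · intro g hg
    have h1 : (⟨g, hg⟩ : L) ∈ normalizer (R' : Set L) ⊔ A.subgroupOf L := by
      rw [Sylow.normalizer_sup_eq_top]; trivial
    have h2 := mem_map_of_mem L.subtype h1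
    rw [Subgroup.map_sup] at h2
    refine (sup_le_sup (le_inf (map_subtype_le _) ?_) ?_) h2
    · exact le_normalizer_map L.subtype
    · exact (subgroupOf_map_subtype A L).le.trans inf_le_left
  · intro X _ f hf
    rintro _ ⟨g, hg, rfl⟩
    let φ : A.subgroupOf L →* (A ⊓ L).map f :=
      ((f.comp L.subtype).comp (A.subgroupOf L).subtype).codRestrict _ fun s =>
        ⟨_, ⟨mem_subgroupOf.1 s.2, (s : L).2⟩, rfl⟩
    have hφ : Function.Surjective φ := by
      rintro ⟨_, a, ha, rfl⟩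
      exact ⟨⟨⟨a, ha.2⟩, mem_subgroupOf.2 ha.1⟩, Subtype.ext rfl⟩
    have htop : ((P.mapSurjective hφ : Sylow r ((A ⊓ L).map f)) : Subgroup ((A ⊓ L).map f)) = ⊤ := by
      have h1 := (P.mapSurjective hφ).3 (Q := ⊤) ?_ le_top
      · exact h1.symm
      · exact hf.of_equiv topEquiv.symm
    have h1 : φ ⟨⟨g, hg.2⟩, mem_subgroupOf.2 hg.1⟩ ∈ (P : Subgroup (A.subgroupOf L)).map φ := by
      rw [← Sylow.coe_mapSurjective hφ, htop]; trivial
    obtain ⟨s, hs, hse⟩ := h1
    exact ⟨_, ⟨_, ⟨s, hs, rfl⟩, rfl⟩, congrArg Subtype.val hse⟩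

theorem centralizes_of_forall_pCore {u : M}
    (h : ∀ q : ℕ, q.Prime → ∀ g ∈ Cfsg.pCore q M, g * u = u * g) [Group.IsSolvable M] :
    u ∈ Cfsg.fittingSubgroup M := by
  refine CfsgLib.Solvable.centralizer_fittingSubgroup_le ?_
  rw [CfsgLib.Solvable.fittingSubgroup_eq_iSup_pCore]
  have : (⨆ p : Nat.Primes, Cfsg.pCore (p : ℕ) M) ≤ centralizer {u} :=
    iSup_le fun p g hg => mem_centralizer_singleton_iff.2 (h p p.2 g hg)
  exact mem_centralizer_iff.2 fun g hg => mem_centralizer_singleton_iff.1 (this hg)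

/-- In a group with trivial `2`-core the Fitting subgroup has no involutions. -/
theorem eq_one_of_mem_fitting (hO : Cfsg.pCore 2 M = ⊥) {c : M} (hc : c ∈ Cfsg.fittingSubgroup M)
    {k : ℕ} (hck : c ^ 2 ^ k = 1) : c = 1 := by
  have := CfsgLib.Solvable.fittingSubgroup_normal M
  have h2 : IsPGroup 2 (zpowers c) := by
    obtain ⟨i, -, hi⟩ := (Nat.dvd_prime_pow Nat.prime_two).1 (orderOf_dvd_of_pow_eq_one hck)
    exact IsPGroup.of_card (n := i) (by rw [Nat.card_zpowers, hi])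
  have h1 := CfsgLib.OddLocal.mem_pCore_of_mem_nilpotent CfsgLib.Solvable.fittingSubgroup_isNilpotent hc h2
  rwa [hO, mem_bot] at h1

end CfsgLib.TwoLength
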