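import Cfsg.Agent.Lib.TwoLength.TopPlanes
import Cfsg.Agent.Lib.TwoLength.TopLift
import Cfsg.Agent.Lib.TwoLength.PlaneNormal

/-!
# The tops centralise the odd part of the second Fitting factor
-/

set_option autoImplicit false

namespace CfsgLib.TwoLength

open Subgroup Module CfsgLib.HallHigman CfsgLib.FixedFree
open scoped commutatorElement

universe u v w

set_option maxHeartbeats 1000000 in
/-- An element centralising all cores but one, in that core's section over the Fitting subgroup,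
lies in the Fitting subgroup. -/
theorem mem_fitting_of_centralizes_others {M : Type w} [Group M] [Finite M] {r : ℕ} [Fact r.Prime]
    [(Cfsg.fittingSubgroup M).Normal] {u : M}
    (hu : (u : M ⧸ Cfsg.fittingSubgroup M) ∈ Cfsg.pCore r (M ⧸ Cfsg.fittingSubgroup M))
    (h : ∀ q : ℕ, q.Prime → q ≠ r → ∀ g ∈ Cfsg.pCore q M, g * u = u * g) :
    u ∈ Cfsg.fittingSubgroup M := by
  set F := Cfsg.fittingSubgroup M with hF
  set E : Subgroup M := ⨆ q : {q : Nat.Primes // (q : ℕ) ≠ r}, Cfsg.pCore ((q : Nat.Primes) : ℕ) M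
  have hEn : E.Normal := ⟨fun g hg c => by
    have h1 : E.map (MulAut.conj c).toMonoidHom ≤ E := by
      rw [Subgroup.map_iSup]
      refine iSup_mono fun q => ?_
      rintro _ ⟨t, ht, rfl⟩
      exact (CfsgLib.Solvable.pCore_normal _ M).conj_mem t ht c
    exact h1 (mem_map_of_mem _ hg)⟩
  have hEF : E ≤ F := iSup_le fun q => by
    have : Fact ((q : Nat.Primes) : ℕ).Prime := ⟨(q : Nat.Primes).2⟩
    exact CfsgLib.Solvable.pCore_le_fittingSubgroup _
  have hFE : F ≤ E ⊔ Cfsg.pCore r M := by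
    rw [hF, CfsgLib.Solvable.fittingSubgroup_eq_iSup_pCore]
    refine iSup_le fun q => ?_
    by_cases hq : (q : ℕ) = r
    · rw [hq]; exact le_sup_right
    · exact le_sup_of_le_left (le_iSup_of_le ⟨q, hq⟩ le_rfl)
  set C := centralizer (E : Set M) with hC
  set H := (Cfsg.pCore r (M ⧸ F)).comap (QuotientGroup.mk' F) with hH
  have hHn : H.Normal := (CfsgLib.Solvable.pCore_normal r _).comap _
  set N := C ⊓ H with hN
  have hcu : u ∈ C := mem_centralizer_iff.2 fun g hg => by
    have h1 : E ≤ centralizer {u} :=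
      iSup_le fun q g hg => mem_centralizer_singleton_iff.2 (h q q.1.2 q.2 g hg)
    exact mem_centralizer_singleton_iff.1 (h1 hg)
  have hFH : F ≤ H := fun g hg => by
    show QuotientGroup.mk' F g ∈ Cfsg.pCore r (M ⧸ F)
    rw [QuotientGroup.mk'_apply, (QuotientGroup.eq_one_iff g).2 hg]
    exact one_mem _
  -- modulo `E` the section is an `r`-group
  have hr : IsPGroup r (H.map (QuotientGroup.mk' E)) := by
    let φ : M ⧸ E →* M ⧸ F := QuotientGroup.map E F (MonoidHom.id M) (by simpa using hEF)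
    have hker : IsPGroup r φ.ker := by
      refine ((CfsgLib.Solvable.pCore_isPGroup r).map (QuotientGroup.mk' E)).to_le ?_
      intro t ht
      obtain ⟨t, rfl⟩ := QuotientGroup.mk'_surjective E t
      have htF : t ∈ F := (QuotientGroup.eq_one_iff t).1 ht
      have h1 : t ∈ E ⊔ Cfsg.pCore r M := hFE htF
      have := CfsgLib.Solvable.pCore_normal r M
      have h2 := mem_map_of_mem (QuotientGroup.mk' E) h1
      rwa [Subgroup.map_sup, QuotientGroup.map_mk'_self, bot_sup_eq] at h2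
    have h1 := (CfsgLib.Solvable.pCore_isPGroup (G := M ⧸ F) r).comap_of_ker_isPGroup φ hker
    refine h1.to_le ?_
    rintro _ ⟨t, ht, rfl⟩
    exact ht
  have hNn : N.Normal := inferInstance
  have hnil : Group.IsNilpotent N := by
    have hE' : (N ⊓ E).Normal := inferInstance
    refine CfsgLib.Solvable.isNilpotent_of_map_mk'_of_central (Z := N ⊓ E) inf_le_left ?_ ?_
    · exact (inf_le_left : N ≤ C).trans (centralizer_le (SetLike.coe_subset_coe.2 inf_le_right))
    · refine IsPGroup.isNilpotent (p := r) ?_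
      let φ : M ⧸ (N ⊓ E) →* M ⧸ E := QuotientGroup.map _ E (MonoidHom.id M) (by simp)
      let ψ : (N.map (QuotientGroup.mk' (N ⊓ E))) →* H.map (QuotientGroup.mk' E) :=
        (φ.comp (Subgroup.subtype _)).codRestrict _ fun t => by
          obtain ⟨t, ht, e⟩ := t.2
          exact ⟨t, ht.2, by rw [MonoidHom.comp_apply, Subgroup.coe_subtype, ← e]; rfl⟩
      refine hr.of_injective ψ ((injective_iff_map_eq_one ψ).2 fun t ht => Subtype.ext ?_)
      obtain ⟨t0, ht0, e⟩ := t.2
      have h1 : φ (t : M ⧸ (N ⊓ E)) = 1 := congrArg Subtype.val ht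
      rw [← e] at h1 ⊢
      exact (QuotientGroup.eq_one_iff t0).2 ⟨ht0, (QuotientGroup.eq_one_iff t0).1 h1⟩
  exact CfsgLib.Solvable.le_fittingSubgroup hNn hnil ⟨hcu, hu⟩

variable {K : Type u} [Field K] [CharP K 2] [IsAlgClosed K] {V : Type v} [AddCommGroup V] [Module K V]
  [FiniteDimensional K V] {M : Type w} [Group M] [Finite M] {ρ : Representation K M V} {e : ℕ}

theorem TopCtx.top_sq (h : TopCtx ρ e) {x : M} (hx : x ^ 2 ^ e = 1) :
    x ^ 2 ^ (e - 1) * x ^ 2 ^ (e - 1) = 1 := by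
  rw [← pow_add, ← two_mul, ← pow_succ', Nat.sub_add_cancel h.one_le, hx]

omit [Finite M] in
theorem odd_orderOf_of_isPGroup {r : ℕ} (hr : r.Prime) (hr2 : r ≠ 2) {R : Subgroup M}
    (hR : IsPGroup r R) {g : M} (hg : g ∈ R) : Odd (orderOf g) := by
  obtain ⟨k, hk⟩ := hR ⟨g, hg⟩
  exact Odd.of_dvd_nat ((hr.odd_of_ne_two hr2).pow)
    (orderOf_dvd_of_pow_eq_one (congrArg Subtype.val hk : g ^ r ^ k = 1))

omit [Finite M] in
theorem eq_one_of_inverted {y u : M} (hu : Odd (orderOf u)) (h1 : y * u * y⁻¹ = u⁻¹)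
    (h2 : y * u = u * y) : u = 1 := by
  rw [h2, mul_inv_cancel_right] at h1
  have h3 : u ^ 2 = 1 := by rw [pow_two]; nth_rw 2 [h1]; exact mul_inv_cancel u
  rcases (Nat.dvd_prime Nat.prime_two).1 (orderOf_dvd_of_pow_eq_one h3) with h4 | h4
  · exact orderOf_eq_one_iff.1 h4
  · exact absurd (h4 ▸ hu) (Nat.not_odd_iff_even.2 even_two)

omit [Finite M] in
theorem inverted_commutator {y s : M} (hy : y * y = 1) : y * ⁅s, y⁆ * y⁻¹ = ⁅s, y⁆⁻¹ := by
  have e : y⁻¹ = y := inv_eq_of_mul_eq_one_right hy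
  have e2 : y⁻¹ * y⁻¹ = 1 := by rw [e, hy]
  calc y * ⁅s, y⁆ * y⁻¹ = y * s * y * s⁻¹ * (y⁻¹ * y⁻¹) := by rw [commutatorElement_def]; group
    _ = y * s * y⁻¹ * s⁻¹ := by rw [e2, mul_one, e]
    _ = ⁅s, y⁆⁻¹ := by rw [commutatorElement_def]; group

omit [Finite M] in
theorem commutator_mem_tops {y : M} (hy : y ∈ tops M e) (s : M) : ⁅s, y⁆ ∈ tops M e :=
  mul_mem ((tops_normal e).conj_mem y hy s) (inv_mem hy)

omit [Finite M] in
theorem commutator_mem_of_normalizer {R : Subgroup M} {s y : M} (hs : s ∈ R)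
    (hy : y ∈ normalizer (R : Set M)) : ⁅s, y⁆ ∈ R := by
  rw [show ⁅s, y⁆ = s * (y * s⁻¹ * y⁻¹) by rw [commutatorElement_def]; group]
  exact mul_mem hs (conj_mem_of_mem_normalizer hy (inv_mem hs))

set_option maxHeartbeats 1000000 in
/-- Tops centralise the odd cores modulo the Fitting subgroup. -/
theorem TopCtx.commute_core_mod_fitting (h : TopCtx ρ e) [(Cfsg.fittingSubgroup M).Normal] {r : ℕ}
    (hr : r.Prime) (hr2 : r ≠ 2) {x : M} (hx : x ^ 2 ^ e = 1) :
    ∀ g ∈ Cfsg.pCore r (M ⧸ Cfsg.fittingSubgroup M),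
      (x ^ 2 ^ (e - 1) : M) * g = g * (x ^ 2 ^ (e - 1) : M) := by
  classical
  have := Fact.mk hr
  have := h.solvable
  set F := Cfsg.fittingSubgroup M
  set f := QuotientGroup.mk' F
  set H := (Cfsg.pCore r (M ⧸ F)).comap f with hH
  have hHn : H.Normal := (CfsgLib.Solvable.pCore_normal r _).comap _
  obtain ⟨R, hR, hRH, hcov, hmap⟩ := exists_sylow_cover r (A := H) (L := ⊤)
  rw [top_inf_eq] at hcov
  rw [inf_top_eq] at hRH
  have hHmap : (H ⊓ ⊤).map f = Cfsg.pCore r (M ⧸ F) := by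
    rw [inf_top_eq, hH, map_comap_eq_self_of_surjective (QuotientGroup.mk'_surjective F)]
  have hRmap : ∀ g ∈ Cfsg.pCore r (M ⧸ F), ∃ s ∈ R, (s : M ⧸ F) = g := fun g hg =>
    hmap f (by rw [hHmap]; exact CfsgLib.Solvable.pCore_isPGroup r) (hHmap.symm ▸ hg)
  obtain ⟨x', hx'N, hx', hxx'⟩ := exists_lift_two h.exp (top_le_iff.1 hcov) hx
  set y := x ^ 2 ^ (e - 1)
  set y' := x' ^ 2 ^ (e - 1) with hy'
  have hy'T : y' ∈ tops M e := top_mem_tops hx'
  have hy'N : y' ∈ normalizer (R : Set M) := pow_mem hx'N _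
  have hy2 : y' * y' = 1 := h.top_sq hx'
  have key : ∀ s ∈ R, (y' : M ⧸ F) * s = s * y' := by
    intro s hs
    set u := ⁅s, y'⁆ with hu
    have huR : u ∈ R := commutator_mem_of_normalizer hs hy'N
    have huT : u ∈ tops M e := commutator_mem_tops hy'T s
    have hinv : y' * u * y'⁻¹ = u⁻¹ := inverted_commutator hy2
    have huF : u ∈ F := by
      refine mem_fitting_of_centralizes_others (hRH huR) fun q hq hqr g hg => ?_
      by_cases hq2 : q = 2
      · subst hq2
        rw [h.core, mem_bot] at hg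
        rw [hg, one_mul, mul_one]
      have := Fact.mk hq
      refine h.centralizes_core hq hq2 huT ?_ (fun χ hw => ?_) g hg
      · obtain ⟨k, hk⟩ := hR ⟨u, huR⟩
        exact (((Nat.coprime_primes hr hq).2 (Ne.symm hqr)).pow_left k).coprime_dvd_left
          (orderOf_dvd_of_pow_eq_one (congrArg Subtype.val hk : u ^ r ^ k = 1))
      set St := charStabilizer (centerIn (movedCore M e q)) χ
      have hTS := h.tops_le_stab hq hq2 χ
      set uS : St := ⟨u, hTS huT⟩
      set yS : St := ⟨y', hTS hy'T⟩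
      have hinvS : hw.act yS * hw.act uS * (hw.act yS)⁻¹ = (hw.act uS)⁻¹ := by
        rw [← map_inv, ← map_inv, ← map_mul, ← map_mul]
        exact congrArg hw.act (Subtype.ext hinv)
      have hodd : Odd (orderOf (hw.act uS)) := by
        refine Odd.of_dvd_nat (odd_orderOf_of_isPGroup hr hr2 hR huR) ?_
        exact (orderOf_map_dvd _ uS).trans (dvd_of_eq (Subgroup.orderOf_coe uS).symm)
      refine eq_one_of_inverted hodd hinvS ?_
      by_cases hmov : hw.act yS = 1
      · rw [hmov, one_mul, mul_one]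
      obtain ⟨j, n, hz, hplane, hinvol⟩ := h.exists_plane hq2 hw hx' (hTS hy'T) hmov
      rw [← hinvol]
      set R' : Subgroup St := (R ⊓ tops M e).subgroupOf St
      have hzN : hw.act ⟨_, hz⟩ ∈ normalizer ((R'.map hw.act : Subgroup _) : Set (MulAut hw.Space)) := by
        refine le_normalizer_map hw.act ⟨⟨_, hz⟩, ?_, rfl⟩
        refine mem_normalizer_of_conj_mem fun t ht => ?_
        exact mem_subgroupOf.2 ⟨conj_mem_of_mem_normalizer (pow_mem hx'N _) (mem_subgroupOf.1 ht).1, (tops_normal e).conj_mem _ (mem_subgroupOf.1 ht).2 _⟩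
      refine hplane.commute_of_coprime hr hr2 (Ne.symm hqr) (R := R'.map hw.act) ?_ hzN _ ?_
      · refine (IsPGroup.of_injective (hR.to_le (inf_le_left : R ⊓ tops M e ≤ R)) ?_ ?_).map _
        · exact ((Subgroup.subtype St).comp R'.subtype).codRestrict (R ⊓ tops M e) fun t => t.2
        · exact fun a b hab => Subtype.ext (Subtype.ext
            (congrArg (fun t : (R ⊓ tops M e : Subgroup M) => (t : M)) hab))
      · exact ⟨uS, ⟨huR, huT⟩, rfl⟩
    have h1 : (u : M ⧸ F) = 1 := (QuotientGroup.eq_one_iff u).2 huF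
    rw [hu] at h1
    exact (commutatorElement_eq_one_iff_mul_comm.1 ((map_commutatorElement f s y').symm.trans h1)).symm
  intro g hg
  have := CfsgLib.Solvable.pCore_normal r (M ⧸ F)
  refine commute_of_congr hr hr2 (CfsgLib.Solvable.pCore_isPGroup r) (y := (y : M ⧸ F))
    (y' := (y' : M ⧸ F)) (h := (y : M ⧸ F) * (y' : M ⧸ F)⁻¹) ?_
    (by rw [normalizer_eq_top]; trivial) ?_ (by rw [inv_mul_cancel_right]) ?_ g hg
  · rw [pow_two, ← QuotientGroup.mk_mul, h.top_sq hx]; rfl
  · have h1 : y * y'⁻¹ ∈ H := by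
      have h2 : ((y : M) : M ⧸ H) = (y' : M ⧸ H) := by
        rw [QuotientGroup.mk_pow, hxx', ← QuotientGroup.mk_pow]
      exact (QuotientGroup.eq_one_iff _).1 (by rw [QuotientGroup.mk_mul, h2, QuotientGroup.mk_inv, mul_inv_cancel])
    exact h1
  · intro g hg
    obtain ⟨s, hs, rfl⟩ := hRmap g hg
    exact key s hs

end CfsgLib.TwoLength
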