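import Cfsg.Agent.Lib.TwoLength.TopWeights

/-!
# The plane elements of the tops
-/

set_option autoImplicit false

namespace CfsgLib.TwoLength

open Subgroup Module CfsgLib.HallHigman CfsgLib.FixedFree
open scoped commutatorElement

universe u v w

variable {K : Type u} [Field K] [CharP K 2] [IsAlgClosed K] {V : Type v} [AddCommGroup V] [Module K V]
  [FiniteDimensional K V] {M : Type w} [Group M] [Finite M]

omit [Finite M] in
theorem commutator_pow_left {a b : M} (hc : Commute a ⁅a, b⁆) (k : ℕ) : ⁅a ^ k, b⁆ = ⁅a, b⁆ ^ k := by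
  induction k with
  | zero => simp
  | succ k ih =>
    have e : ⁅a * a ^ k, b⁆ = a * ⁅a ^ k, b⁆ * a⁻¹ * ⁅a, b⁆ := by
      simp only [commutatorElement_def]; group
    rw [pow_succ', e, ih, (hc.pow_right k).eq, mul_inv_cancel_right, pow_succ]

omit [Finite M] in
theorem commutator_pow_right {a b : M} (hc : Commute b ⁅a, b⁆) (k : ℕ) : ⁅a, b ^ k⁆ = ⁅a, b⁆ ^ k := by
  rw [← commutatorElement_inv, commutator_pow_left (by rw [← commutatorElement_inv]; exact hc.inv_right) k,
    ← commutatorElement_inv, inv_pow, inv_inv]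

variable {ρ : Representation K M V} {e : ℕ}

namespace TopCtx

variable (h : TopCtx ρ e)
include h

theorem movedCore_pow {q : ℕ} (hq : q.Prime) (hq2 : q ≠ 2) :
    ∀ a ∈ movedCore M e q, a ^ q ∈ centerIn (movedCore M e q) := by
  classical
  have := Fact.mk hq
  set D := movedCore M e q
  have hDn : D.Normal := movedCore_normal q
  have hDq : IsPGroup q D := movedCore_isPGroup q
  have hcom := h.movedCore_comm hq hq2
  have hcomm : ∀ a ∈ D, ∀ b ∈ D, ∀ d ∈ D, Commute d ⁅a, b⁆ := fun a ha b hb d hd =>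
    (mem_centerIn.1 (hcom a ha b hb)).2 d hd
  have hex : ∃ m, ∀ a ∈ D, ∀ b ∈ D, ⁅a, b⁆ ^ q ^ m = 1 := by
    obtain ⟨m, hm⟩ := hDq.exists_card_eq
    refine ⟨m, fun a ha b hb => ?_⟩
    have h1 : ⁅a, b⁆ ∈ D := centerIn_le D (hcom a ha b hb)
    have h2 := pow_card_eq_one' (x := (⟨_, h1⟩ : D))
    rw [hm] at h2
    exact congrArg Subtype.val h2
  set m := Nat.find hex with hm
  have hm1 : m ≤ 1 := by
    by_contra hm1
    obtain ⟨k, hk⟩ : ∃ k, (m + 1) / 2 = k := ⟨_, rfl⟩
    refine Nat.find_min hex (show k < m by omega) fun a ha b hb => ?_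
    set S : Set M := {y | ∃ c ∈ D, y = c ^ q ^ k}
    set A := closure S
    have hAD : A ≤ D := (closure_le D).2 fun y ⟨c, hc, e⟩ => e ▸ pow_mem hc _
    have hS : ∀ y ∈ S, ∀ y' ∈ S, y * y' = y' * y := by
      rintro _ ⟨c, hc, rfl⟩ _ ⟨c', hc', rfl⟩
      refine commutatorElement_eq_one_iff_mul_comm.1 ?_
      rw [commutator_pow_left (hcomm c hc _ (pow_mem hc' _) c hc) (q ^ k),
        commutator_pow_right (hcomm c hc c' hc' c' hc') (q ^ k), ← pow_mul, ← pow_add]
      have := Nat.find_spec hex c hc c' hc'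
      rw [← hm] at this
      rw [show k + k = m + (k + k - m) by omega, pow_add, pow_mul, this, one_pow]
    have hSA : A ≤ centralizer (A : Set M) := by
      have h1 : A ≤ centralizer S := (closure_le _).2 fun y hy => mem_centralizer_iff.2 fun y' hy' => hS y' hy' y hy
      rwa [← centralizer_closure] at h1
    have hAn : A.Normal := ⟨fun y hy g => by
      have h1 : A.map (MulAut.conj g).toMonoidHom ≤ A := by
        rw [MonoidHom.map_closure]
        refine closure_mono ?_
        rintro _ ⟨_, ⟨c, hc, rfl⟩, rfl⟩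
        exact ⟨g * c * g⁻¹, hDn.conj_mem c hc g, by simp [conj_pow]⟩
      simpa using h1 (mem_map_of_mem _ hy)⟩
    have hc := h.movedCore_le_centralizer hq hq2 (A := A) (hDq.to_le hAD)
      fun y hy y' hy' => mem_centralizer_iff.1 (hSA hy') y hy
    have h1 : Commute (a ^ q ^ k) b := mem_centralizer_iff.1 (hc hb) _ (subset_closure ⟨a, ha, rfl⟩)
    rw [← commutator_pow_left (hcomm a ha b hb a ha) (q ^ k)]
    exact commutatorElement_eq_one_iff_mul_comm.2 h1.eq
  intro a ha
  refine mem_centerIn.2 ⟨pow_mem ha _, fun d hd => Commute.symm ?_⟩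
  refine commutatorElement_eq_one_iff_mul_comm.1 ?_
  rw [commutator_pow_left (hcomm a ha d hd a ha) q]
  have h1 := Nat.find_spec hex a ha d hd
  rw [← hm] at h1
  rw [← pow_one q, show 1 = m + (1 - m) by omega, pow_add, pow_mul, h1, one_pow]

theorem movedCore_weightCtx {q : ℕ} (hq : q.Prime) (hq2 : q ≠ 2) {χ : M → K} {v : V} (hv : v ≠ 0)
    (hvχ : v ∈ charSpace ρ (centerIn (movedCore M e q)) χ) : WeightCtx ρ (movedCore M e q) q χ :=
  ⟨movedCore_normal q, movedCore_isPGroup q, h.movedCore_comm hq hq2, h.movedCore_pow hq hq2, v, hv, hvχ⟩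

theorem tops_commute_center {q : ℕ} (hq : q.Prime) (hq2 : q ≠ 2) {u z : M} (hu : u ∈ tops M e)
    (hz : z ∈ centerIn (movedCore M e q)) : z * u = u * z := by
  have := movedCore_normal (M := M) (e := e) q
  exact mem_centralizer_iff.1 (h.tops_le_centralizer hq hq2
    ((movedCore_isPGroup q).to_le (centerIn_le _)) (fun a ha b hb => ((mem_centerIn.1 hb).2 a
      (centerIn_le _ ha)).eq) hu) z hz

theorem tops_le_stab {q : ℕ} (hq : q.Prime) (hq2 : q ≠ 2) (χ : M → K) :
    tops M e ≤ charStabilizer (centerIn (movedCore M e q)) χ := by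
  have := movedCore_normal (M := M) (e := e) q
  intro u hu
  refine ⟨by rw [normalizer_eq_top]; trivial, fun z hz => ?_⟩
  rw [mul_assoc, h.tops_commute_center hq hq2 hu hz, inv_mul_cancel_left]

/-- An element of the tops of order prime to `q` acting trivially at every weight centralises the
`q`-core. -/
theorem centralizes_core {q : ℕ} (hq : q.Prime) (hq2 : q ≠ 2) {u : M} (hu : u ∈ tops M e)
    (hcop : (orderOf u).Coprime q)
    (hact : ∀ (χ : M → K) (hw : WeightCtx ρ (movedCore M e q) q χ),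
      hw.act ⟨u, h.tops_le_stab hq hq2 χ hu⟩ = 1) :
    ∀ g ∈ Cfsg.pCore q M, g * u = u * g := by
  have := Fact.mk hq
  set D := movedCore M e q
  have hDn : D.Normal := movedCore_normal q
  have hDq : IsPGroup q D := movedCore_isPGroup q
  have hord : ∀ {w : M}, w ∈ D → w ^ orderOf u = 1 → w = 1 := by
    intro w hw hwk
    obtain ⟨k, hk⟩ := hDq ⟨w, hw⟩
    exact orderOf_eq_one_iff.1 (Nat.eq_one_of_dvd_coprimes (hcop.pow_right k)
      (orderOf_dvd_of_pow_eq_one hwk) (orderOf_dvd_of_pow_eq_one (congrArg Subtype.val hk)))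
  have hD : ∀ d ∈ D, d * u = u * d := by
    intro d hd
    set c := (u * d * u⁻¹)⁻¹ * d with hc
    have hcD : c ∈ D := mul_mem (inv_mem (hDn.conj_mem d hd u)) hd
    have hcZ : c ∈ centerIn D := by
      refine mem_centerIn.2 ⟨hcD, fun b hb => Commute.symm (commutatorElement_eq_one_iff_mul_comm.1 ?_)⟩
      have hzZ := h.movedCore_comm hq hq2 c hcD b hb
      refine h.inj (LinearMap.ext fun w => ?_)
      rw [map_one, Module.End.one_apply]
      refine fix_of_weights ρ (centerIn D) (M := ⊤) (fun _ _ _ _ => trivial)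
        (fun a ha b hb w _ => by rw [((mem_centerIn.1 hb).2 a (centerIn_le D ha)).eq]) hzZ
        (cast_orderOf_ne_zero hq hq2 hDq (centerIn_le D hzZ)) (fun v χ _ hv0 hvχ => ?_) w trivial
      have hw := h.movedCore_weightCtx hq hq2 hv0 hvχ
      have h1 : hw.proj (hw.conjD u ⟨d, hd⟩) = hw.proj ⟨d, hd⟩ := by
        rw [← hw.act_proj ⟨u, h.tops_le_stab hq hq2 χ hu⟩, hact χ hw, MulAut.one_apply]
      have h2 := hw.mem_orth.1 (hw.proj_eq.1 h1) ⟨b, hb⟩
      rw [hvχ _ hzZ]
      have h3 : ((⟨c, hcD⟩ : D) : M) = ((((hw.conjD u ⟨d, hd⟩)⁻¹ * ⟨d, hd⟩ : D)) : M) := by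
        push_cast; rw [hw.conjD_apply]
      have h4 : χ ⁅c, b⁆ = 1 := by
        have h5 := congrArg Units.val h2
        rw [WeightCtx.beta, hw.chiHom_apply, Units.val_one] at h5
        rw [← h5]
        exact congrArg χ (congrArg (fun t : M => ⁅t, b⁆) h3)
      rw [h4, one_smul]
    have hconj : ∀ k : ℕ, u ^ k * d * (u ^ k)⁻¹ = d * c⁻¹ ^ k := by
      intro k
      induction k with
      | zero => simp
      | succ k ih =>
        have hcu : Commute u c⁻¹ := Commute.inv_right (h.tops_commute_center hq hq2 hu hcZ).symm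
        rw [pow_succ', show u * u ^ k * d * (u * u ^ k)⁻¹ = u * (u ^ k * d * (u ^ k)⁻¹) * u⁻¹ by group,
          ih, show u * (d * c⁻¹ ^ k) * u⁻¹ = (u * d * u⁻¹) * (u * c⁻¹ ^ k * u⁻¹) by group,
          (hcu.pow_right k).eq, mul_inv_cancel_right, pow_succ', ← mul_assoc d c⁻¹]
        congr 1
        rw [hc]; group
    have h1 := hconj (orderOf u)
    rw [pow_orderOf_eq_one, one_mul, inv_one, mul_one, left_eq_mul] at h1
    have hc1 : c = 1 := inv_eq_one.1 (hord (inv_mem hcD) h1)
    rw [hc, inv_mul_eq_one] at hc1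
    conv_lhs => rw [← hc1]
    rw [inv_mul_cancel_right]
  intro g hg
  set w := ⁅g, u⁆ with hw
  have hwD : w ∈ D := commutator_mem_commutator hg hu
  have hconj : ∀ k : ℕ, g * u ^ k * g⁻¹ = w ^ k * u ^ k := by
    intro k
    have hwu : Commute w u := hD w hwD
    rw [← hwu.mul_pow, hw, commutatorElement_def, inv_mul_cancel_right, conj_pow]
  have h1 := hconj (orderOf u)
  rw [pow_orderOf_eq_one, mul_one, mul_inv_cancel, mul_one] at h1
  exact commutatorElement_eq_one_iff_mul_comm.1 (hord hwD h1.symm)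

/-- An element whose top moves a weight space has a power acting there as a plane element. -/
theorem exists_plane {q : ℕ} [Fact q.Prime] (hq2 : q ≠ 2) {χ : M → K}
    (hw : WeightCtx ρ (movedCore M e q) q χ) {x : M} (hx : x ^ 2 ^ e = 1)
    (hy : x ^ 2 ^ (e - 1) ∈ charStabilizer (centerIn (movedCore M e q)) χ)
    (hmov : hw.act ⟨_, hy⟩ ≠ 1) :
    ∃ (j n : ℕ) (hz : x ^ 2 ^ j ∈ charStabilizer (centerIn (movedCore M e q)) χ),
      IsPlane hw.pairing n q (hw.act ⟨_, hz⟩) ∧
        IsPlane.invol (hw.act ⟨_, hz⟩) n = hw.act ⟨_, hy⟩ := by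
  classical
  set Z := centerIn (movedCore M e q)
  set St := charStabilizer Z χ
  have hex : ∃ o, 0 < o ∧ x ^ o ∈ St := ⟨_, pow_pos two_pos _, hy⟩
  set o := Nat.find hex
  obtain ⟨ho, hoS⟩ := Nat.find_spec hex
  have hdvd : ∀ i, x ^ i ∈ St → o ∣ i := by
    intro i hi
    refine Nat.dvd_of_mod_eq_zero (Nat.eq_zero_of_not_pos fun hpos => ?_)
    refine Nat.find_min hex (Nat.mod_lt i ho) ⟨hpos, ?_⟩
    have h1 : x ^ (o * (i / o)) ∈ St := by rw [pow_mul]; exact pow_mem hoS _
    refine (mul_mem_cancel_left h1).1 ?_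
    rw [← pow_add, Nat.div_add_mod]
    exact hi
  obtain ⟨j, hje, hoj⟩ := (Nat.dvd_prime_pow Nat.prime_two).1 (hdvd _ hy)
  refine ⟨j, e - j, hoj ▸ hoS, ?_⟩
  set z : St := ⟨x ^ 2 ^ j, hoj ▸ hoS⟩ with hz
  have hje' : j < e := by have := h.one_le; omega
  have hzy : z ^ 2 ^ (e - j - 1) = ⟨_, hy⟩ := Subtype.ext (by
    rw [SubgroupClass.coe_pow, hz]
    show (x ^ 2 ^ j) ^ 2 ^ (e - j - 1) = x ^ 2 ^ (e - 1)
    rw [← pow_mul, ← pow_add, show j + (e - j - 1) = e - 1 by omega])
  have hzn : z ^ 2 ^ (e - j) = 1 := Subtype.ext (by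
    rw [SubgroupClass.coe_pow, OneMemClass.coe_one]
    show (x ^ 2 ^ j) ^ 2 ^ (e - j) = 1
    rw [← pow_mul, ← pow_add, show j + (e - j) = e by omega, hx])
  have := hw.nontrivial_charSpace
  have hdeg : deg (weightRep ρ Z χ z) < 2 ^ (e - j) := by
    have := (movedCore_normal (M := M) (e := e) q)
    have hW : ∀ w ∈ charSpace ρ Z χ, (ρ x ^ o) w ∈ charSpace ρ Z χ := fun w hwm => by
      rw [← map_pow]; exact charSpace_map_mem hoS hwm
    have hmul := mul_deg_restrict_le hW (charSpace_translates ρ Z (by rw [normalizer_eq_top]; trivial) χ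
      (fun i hi hio hm => Nat.find_min hex hio ⟨hi, hm⟩) le_rfl)
    have e1 : weightRep ρ Z χ z = (ρ x ^ o).restrict hW := LinearMap.ext fun w => Subtype.ext (by
      rw [weightRep_apply, LinearMap.coe_restrict_apply, ← map_pow, show (z : M) = x ^ 2 ^ j from rfl, ← hoj])
    rw [e1]
    have h2 := hmul.trans_lt (h.deg_lt hx)
    rw [show e = j + (e - j) by omega, pow_add, ← hoj] at h2
    exact Nat.lt_of_mul_lt_mul_left h2
  have hplane := hw.isPlane hq2 (n := e - j) (by omega) hzn hdeg (by rw [hzy]; exact hmov)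
  exact ⟨hplane, by rw [IsPlane.invol, ← map_pow, hzy]⟩

end TopCtx

end CfsgLib.TwoLength
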