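import Cfsg.Agent.Lib.TwoLength.Pairing
import Mathlib.GroupTheory.PGroup

/-!
# Plane elements

An automorphism `z` of order `q + 1 = 2 ^ a` whose involution `y` inverts a plane and which fixes
the orthogonal of that plane pointwise commutes with its conjugates inside any `2`-group.
-/

set_option autoImplicit false

namespace CfsgLib.TwoLength

open Subgroup

universe u v

variable {S : Type u} [CommGroup S] [Finite S] {C : Type v} [CommGroup C] {B : Pairing S C}
  {q : ℕ} [hq : Fact q.Prime]

/-- An element of `2`-power order preserving a plane and fixing a nonzero vector of it fixes it. -/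
theorem fix_plane (hq2 : q ≠ 2) (hexp : ∀ s : S, s ^ q = 1) {g : MulAut S} (hg : B.Preserves g)
    {k : ℕ} (hgk : g ^ 2 ^ k = 1) {P : Subgroup S} (hP : Nat.card P = q ^ 2)
    (hnd : ∀ s ∈ P, (∀ t ∈ P, B.toFun s t = 1) → s = 1) (hgP : ∀ s ∈ P, g s ∈ P) {v : S}
    (hv : v ∈ P) (hv1 : v ≠ 1) (hgv : g v = v) {s : S} (hs : s ∈ P) : g s = s := by
  set L := zpowers v
  have hL : Nat.card L = q := by rw [Nat.card_zpowers, orderOf_eq_prime (hexp v) hv1]
  set M := (B.toFun v).ker ⊓ P with hM
  have hLM : L ≤ M := zpowers_le.2 ⟨B.alt v, hv⟩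
  have hMP : M ≠ P := fun e => hv1 (hnd v hv fun t ht => (e.symm ▸ ht : t ∈ M).1)
  obtain ⟨j, hj, hMj⟩ := (Nat.dvd_prime_pow hq.out).1 (hP ▸ Subgroup.card_dvd_of_le (inf_le_right : M ≤ P))
  have hj1 : j ≤ 1 := by
    by_contra hj1
    exact hMP (Subgroup.eq_of_le_of_card_ge inf_le_right (by rw [hP, hMj, show j = 2 by omega]))
  have hML : M = L := (Subgroup.eq_of_le_of_card_ge hLM (by
    rw [hMj, hL]
    calc q ^ j ≤ q ^ 1 := Nat.pow_le_pow_right hq.out.pos hj1
      _ = q := pow_one q)).symm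
  have hd : g s * s⁻¹ ∈ L := hML ▸ Subgroup.mem_inf.2 ⟨by
    rw [MonoidHom.mem_ker, map_mul, map_inv, mul_inv_eq_one]
    conv_lhs => rw [← hgv]
    exact hg v s, mul_mem (hgP s hs) (inv_mem hs)⟩
  set d := g s * s⁻¹ with hdd
  have hgd : g d = d := by
    obtain ⟨i, hi⟩ := mem_zpowers_iff.1 hd
    rw [← hi, map_zpow, hgv]
  have key : ∀ i : ℕ, (g ^ i) s = d ^ i * s := fun i => by
    induction i with
    | zero => simp
    | succ i ih =>
      rw [pow_succ', MulAut.mul_apply, ih, map_mul, map_pow, hgd, pow_succ, mul_assoc (d ^ i)]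
      congr 1
      rw [hdd, inv_mul_cancel_right]
  have h1 := key (2 ^ k)
  rw [hgk, MulAut.one_apply, eq_comm, mul_eq_right] at h1
  have hd1 : d = 1 := orderOf_eq_one_iff.1 (Nat.eq_one_of_dvd_coprimes
    (((Nat.coprime_primes Nat.prime_two hq.out).2 hq2.symm).pow_left k)
    (orderOf_dvd_of_pow_eq_one h1) (orderOf_dvd_of_pow_eq_one (hexp d)))
  rw [hdd, mul_inv_eq_one] at hd1
  exact hd1

theorem odd_orderOf (hq2 : q ≠ 2) (hexp : ∀ s : S, s ^ q = 1) (s : S) : Odd (orderOf s) :=
  Odd.of_dvd_nat (hq.out.odd_of_ne_two hq2) (orderOf_dvd_of_pow_eq_one (hexp s))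

/-- A plane element. -/
structure IsPlane (B : Pairing S C) (a q : ℕ) (z : MulAut S) : Prop where
  two_le : 2 ≤ a
  card_q : q + 1 = 2 ^ a
  exp : ∀ s : S, s ^ q = 1
  preserves : B.Preserves z
  pow_eq_one : z ^ 2 ^ a = 1
  card_disp : Nat.card (disp (z ^ 2 ^ (a - 1))) = q ^ 2
  fixed_le : fixedSub (z ^ 2 ^ (a - 1)) ≤ fixedSub z

namespace IsPlane

variable {a : ℕ} {z : MulAut S} (h : IsPlane B a q z)

/-- The involution of a plane element. -/
def invol (z : MulAut S) (a : ℕ) : MulAut S := z ^ 2 ^ (a - 1)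

include h

omit hq [Finite S] in
theorem q_ne_two : q ≠ 2 := fun e => by
  have h1 := h.card_q
  subst e
  obtain ⟨b, rfl⟩ : ∃ b, a = b + 1 := ⟨a - 1, by have := h.two_le; omega⟩
  rw [pow_succ] at h1
  omega

omit hq [Finite S] in
theorem invol_sq : invol z a ^ 2 = 1 := by
  rw [invol, ← pow_mul, ← pow_succ, Nat.sub_add_cancel (le_trans one_le_two h.two_le), h.pow_eq_one]

omit hq [Finite S] in
theorem invol_preserves : B.Preserves (invol z a) :=
  pow_mem (show z ∈ B.isom from h.preserves) _

theorem odd (s : S) : Odd (orderOf s) := odd_orderOf h.q_ne_two h.exp s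

theorem nondeg {d : S} (hd : d ∈ disp (invol z a))
    (hall : ∀ d' ∈ disp (invol z a), B.toFun d d' = 1) : d = 1 :=
  nondeg_disp h.odd h.invol_sq h.invol_preserves hd hall

omit hq [Finite S] in
theorem apply_fixed {s : S} (hs : s ∈ fixedSub (invol z a)) : z s = s :=
  mem_fixedSub.1 (h.fixed_le hs)

omit hq [Finite S] in
theorem fixed_eq : fixedSub (invol z a) = fixedSub z := by
  refine le_antisymm h.fixed_le fun s hs => mem_fixedSub.2 ?_
  rw [invol]
  generalize 2 ^ (a - 1) = i
  induction i with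
  | zero => rfl
  | succ i ih => rw [pow_succ', MulAut.mul_apply, ih, mem_fixedSub.1 hs]

omit hq in
theorem conj {u : MulAut S} (hu : B.Preserves u) : IsPlane B a q (u * z * u⁻¹) := by
  refine ⟨h.two_le, h.card_q, h.exp, ?_, by rw [conj_pow, h.pow_eq_one, mul_one, mul_inv_cancel],
    ?_, fun s hs => ?_⟩
  · exact mul_mem (mul_mem (show u ∈ B.isom from hu) h.preserves) (inv_mem (show u ∈ B.isom from hu))
  · rw [conj_pow, ← h.card_disp]
    refine Nat.card_congr ⟨fun d => ⟨u⁻¹ d, ?_⟩, fun d => ⟨u d, conj_apply_mem_disp d.2⟩,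
      fun d => Subtype.ext (MulAut.apply_inv_self _ _ _), fun d => Subtype.ext (MulAut.inv_apply_self _ _ _)⟩
    have := conj_apply_mem_disp (g := u⁻¹) d.2
    simpa [mul_assoc] using this
  · rw [conj_pow] at hs
    have h1 := conj_apply_mem_fixedSub (g := u⁻¹) hs
    rw [show u⁻¹ * (u * z ^ 2 ^ (a - 1) * u⁻¹) * u⁻¹⁻¹ = z ^ 2 ^ (a - 1) by group] at h1
    rw [mem_fixedSub, MulAut.mul_apply, MulAut.mul_apply, h.apply_fixed h1, MulAut.apply_inv_self]

/-- Commuting plane involutions have equal or orthogonal planes. -/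
theorem eq_or_le {z' : MulAut S} (h' : IsPlane B a q z')
    (hc : invol z a * invol z' a = invol z' a * invol z a) :
    disp (invol z' a) = disp (invol z a) ∨ disp (invol z' a) ≤ fixedSub (invol z a) := by
  by_cases hv : ∃ v ∈ disp (invol z a), v ≠ 1 ∧ invol z' a v = v
  · obtain ⟨v, hv, hv1, hgv⟩ := hv
    right
    intro d hd
    refine mem_fixedSub_of_orthogonal h.odd h.invol_sq h.invol_preserves fun e he => ?_
    refine Pairing.swap_eq_one (pairing_fixed_disp h'.invol_preserves (mem_fixedSub.2 ?_) hd)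
    exact fix_plane h.q_ne_two h.exp h'.invol_preserves (k := 1) (by rw [pow_one, h'.invol_sq])
      h.card_disp (fun s hs => h.nondeg hs) (fun s hs => apply_mem_disp hc.symm hs) hv hv1 hgv he
  · left
    push Not at hv
    refine (Subgroup.eq_of_le_of_card_ge (fun s hs => ?_) (le_of_eq ?_)).symm
    · obtain ⟨c, hc', d, hd, rfl⟩ := exists_decomp h'.odd h'.invol_sq s
      have h1 : c * d * invol z' a (c * d) = c * c := by
        rw [map_mul, mem_fixedSub.1 hc', apply_disp (hy := h'.invol_sq) hd, mul_mul_mul_comm,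
          mul_inv_cancel, mul_one]
      have h2 : c * c = 1 := by
        by_contra hne
        refine hne ((fun e => ?_) (hv _ (h1 ▸ mul_mem hs (apply_mem_disp hc.symm hs)) hne))
        exact absurd (by rw [map_mul, mem_fixedSub.1 hc']) e
      rw [eq_one_of_sq (h.odd c) (by rw [sq, h2]), one_mul]
      exact hd
    · exact h'.card_disp.trans h.card_disp.symm

/-- If `g` maps the plane of `z` onto itself it commutes with the involution of `z`. -/
theorem commute_of_preserves {g : MulAut S} (hg : B.Preserves g)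
    (hgP : ∀ d ∈ disp (invol z a), g d ∈ disp (invol z a)) :
    invol z a * g = g * invol z a := by
  set y := invol z a
  have hy := h.invol_sq
  have hsurj : ∀ d ∈ disp y, ∃ e ∈ disp y, g e = d := by
    intro d hd
    let f : disp y → disp y := fun e => ⟨g e, hgP e e.2⟩
    have hf : Function.Injective f := fun e e' he => Subtype.ext (g.injective (congrArg Subtype.val he))
    obtain ⟨e, he⟩ := Finite.injective_iff_surjective.1 hf ⟨d, hd⟩
    exact ⟨e, e.2, congrArg Subtype.val he⟩
  refine MulEquiv.ext fun s => ?_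
  obtain ⟨c, hc, d, hd, rfl⟩ := exists_decomp h.odd hy s
  have hgc : g c ∈ fixedSub y := mem_fixedSub_of_orthogonal h.odd hy h.invol_preserves fun e he => by
    obtain ⟨e', he', rfl⟩ := hsurj e he
    rw [hg]
    exact pairing_fixed_disp h.invol_preserves hc he'
  rw [MulAut.mul_apply, MulAut.mul_apply, map_mul g, map_mul y, mem_fixedSub.1 hgc,
    apply_disp (hy := hy) (hgP d hd), map_mul y, mem_fixedSub.1 hc, apply_disp (hy := hy) hd, map_mul g,
    map_inv]

/-- If all conjugate planes of `z` under `T` are equal or orthogonal, the involution of a second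
plane element of `T` commutes with that of `z`. -/
theorem commute_invol {z' : MulAut S} (h' : IsPlane B a q z')
    (hall : ∀ i j : ℕ, invol (z' ^ i * z * (z' ^ i)⁻¹) a * invol (z' ^ j * z * (z' ^ j)⁻¹) a =
      invol (z' ^ j * z * (z' ^ j)⁻¹) a * invol (z' ^ i * z * (z' ^ i)⁻¹) a) :
    invol z a * invol z' a = invol z' a * invol z a := by
  set y := invol z a with hy
  have hi : ∀ i, IsPlane B a q (z' ^ i * z * (z' ^ i)⁻¹) := fun i =>
    h.conj (pow_mem (show z' ∈ B.isom from h'.preserves) i)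
  have hmem : ∀ (i : ℕ) d, d ∈ disp y → (z' ^ i) d ∈ disp (invol (z' ^ i * z * (z' ^ i)⁻¹) a) := by
    intro i d hd
    rw [invol, conj_pow]
    exact conj_apply_mem_disp hd
  have hP2 : ∀ d ∈ disp y, (z' ^ 2) d ∈ disp y := by
    intro d hd
    by_cases hdne : d = 1
    · rw [hdne, map_one]; exact one_mem _
    have horth : ∀ j, invol (z' ^ j * z * (z' ^ j)⁻¹) a * y = y * invol (z' ^ j * z * (z' ^ j)⁻¹) a :=
      fun j => by simpa using hall j 0
    by_cases hP1 : disp (invol (z' ^ 1 * z * (z' ^ 1)⁻¹) a) = disp y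
    · have h1 := fun e (he : e ∈ disp y) => hP1 ▸ hmem 1 e he
      rw [pow_succ, pow_one, MulAut.mul_apply]
      simpa using h1 _ (h1 d hd)
    rcases (h.eq_or_le (hi 2) (horth 2).symm) with e2 | e2
    · exact e2 ▸ hmem 2 d hd
    exfalso
    rcases (hi 1).eq_or_le (hi 2) (hall 1 2) with e12 | e12
    · refine hP1 (Subgroup.eq_of_le_of_card_ge (fun e he => ?_)
        (h.card_disp.trans (hi 1).card_disp.symm).le)
      have hb : invol (z' ^ 1 * z * (z' ^ 1)⁻¹) a = z' * invol z a * z'⁻¹ := by
        rw [pow_one, invol, conj_pow]; rfl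
      have hb2 : invol (z' ^ 2 * z * (z' ^ 2)⁻¹) a = z' * invol (z' ^ 1 * z * (z' ^ 1)⁻¹) a * z'⁻¹ := by
        rw [pow_two, pow_one]; simp only [invol, conj_pow]; group
      -- the plane of index one is that of index two, hence the plane itself is that of index one
      have h1 : z' e ∈ disp (invol (z' ^ 2 * z * (z' ^ 2)⁻¹) a) := hb2 ▸ conj_apply_mem_disp he
      rw [e12, hb] at h1
      have h2 := conj_apply_mem_disp (g := z'⁻¹) h1
      simpa [mul_assoc, MulAut.mul_apply] using h2
    -- the planes of index `0`, `1`, `2` are pairwise orthogonal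
    have hP10 : disp (invol (z' ^ 1 * z * (z' ^ 1)⁻¹) a) ≤ fixedSub y :=
      (h.eq_or_le (hi 1) (horth 1).symm).resolve_left hP1
    have hfix : ∀ e ∈ disp y, z' e = e → e = 1 := fun e he heq => disjoint_fixed_disp h.odd h.invol_sq
      (hP10 (by have := hmem 1 e he; rwa [pow_one, heq, ← pow_one z'] at this)) he
    let f : disp y →* disp (invol z' a) := ((dispHom z').comp (disp y).subtype).codRestrict _ fun e => by
      obtain ⟨c, hc, g, hg, hcg⟩ := exists_decomp h'.odd h'.invol_sq (e : S)
      show z' e * (e : S)⁻¹ ∈ disp (invol z' a)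
      rw [← hcg, map_mul, h'.apply_fixed hc, mul_inv, mul_mul_mul_comm, mul_inv_cancel, one_mul]
      refine mul_mem (apply_mem_disp ?_ hg) (inv_mem hg)
      exact (Commute.self_pow z' _).eq
    have hfinj : Function.Injective f := (injective_iff_map_eq_one f).2 fun e he => Subtype.ext
      (hfix e e.2 (mul_inv_eq_one.1 (congrArg Subtype.val he)))
    have hfsurj := ((Nat.bijective_iff_injective_and_card f).2
      ⟨hfinj, h.card_disp.trans h'.card_disp.symm⟩).2
    have hd1 : z' (z' d) * (z' d)⁻¹ ∈ disp (invol z' a) := by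
      have h1 : z' d * d⁻¹ ∈ disp (invol z' a) := (f ⟨d, hd⟩).2
      have h2 : z' (z' d * d⁻¹) ∈ disp (invol z' a) := apply_mem_disp (Commute.self_pow z' _).eq h1
      rwa [map_mul, map_inv] at h2
    obtain ⟨p₀, hp₀⟩ := hfsurj ⟨_, hd1⟩
    have hp : z' p₀ * (p₀ : S)⁻¹ = z' (z' d) * (z' d)⁻¹ := congrArg Subtype.val hp₀
    have hmem2 : z' (z' d) ∈ disp (invol (z' ^ 2 * z * (z' ^ 2)⁻¹) a) := by
      have := hmem 2 d hd
      rwa [pow_two, MulAut.mul_apply] at this
    have hd2 : z' (z' d) = 1 := (hi 2).nondeg hmem2 fun e he => by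
      have e3 : z' (z' d) = (p₀ : S)⁻¹ * (z' (p₀ * d)) := by
        rw [map_mul, ← mul_assoc, mul_comm (p₀ : S)⁻¹, hp, inv_mul_cancel_right]
      rw [e3, map_mul, MonoidHom.mul_apply]
      have h1 : B.toFun (p₀ : S)⁻¹ e = 1 :=
        Pairing.swap_eq_one (pairing_fixed_disp h.invol_preserves (e2 he) (inv_mem p₀.2))
      have h2 : B.toFun (z' (p₀ * d)) e = 1 := by
        refine Pairing.swap_eq_one (pairing_fixed_disp (hi 1).invol_preserves (e12 he) ?_)
        have := hmem 1 _ (mul_mem p₀.2 hd)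
        rwa [pow_one] at this ⊢
      rw [h1, h2, one_mul]
    have hd0 : d = 1 := z'.injective (z'.injective (by rw [hd2, map_one, map_one]))
    exact hdne hd0
  -- so the involution of `z'` preserves the plane of `z`
  refine h.commute_of_preserves h'.invol_preserves fun d hd => ?_
  have key : ∀ i, ((z' ^ 2) ^ i) d ∈ disp y := fun i => by
    induction i with
    | zero => exact hd
    | succ i ih => rw [pow_succ', MulAut.mul_apply]; exact hP2 _ ih
  rw [show invol z' a = (z' ^ 2) ^ 2 ^ (a - 2) by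
    rw [← pow_mul, ← pow_succ', invol]; congr 2; have := h.two_le; omega]
  exact key _

end IsPlane

end CfsgLib.TwoLength
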