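import Cfsg.Agent.Lib.FixedFree.ClassTwo
import Cfsg.Agent.Lib.FixedFree.CriticalPart
import Cfsg.Agent.Lib.TwoLength.Plane

/-!
# The symplectic space of a weight of the centre of a group of class two
-/

set_option autoImplicit false

namespace CfsgLib.TwoLength

open Subgroup CfsgLib.HallHigman CfsgLib.FixedFree
open scoped commutatorElement

universe u v w

variable {K : Type u} [Field K] {V : Type v} [AddCommGroup V] [Module K V] {X : Type w} [Group X]

/-- A normal `q`-subgroup of class two with elementary central quotient, and a weight of its centre. -/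
structure WeightCtx (ρ : Representation K X V) (D : Subgroup X) (q : ℕ) (χ : X → K) : Prop where
  normal : D.Normal
  isPGroup : IsPGroup q D
  comm : ∀ a ∈ D, ∀ b ∈ D, ⁅a, b⁆ ∈ centerIn D
  pow : ∀ a ∈ D, a ^ q ∈ centerIn D
  exists_vec : ∃ v : V, v ≠ 0 ∧ v ∈ charSpace ρ (centerIn D) χ

namespace WeightCtx

variable {ρ : Representation K X V} {D : Subgroup X} {q : ℕ} {χ : X → K} (h : WeightCtx ρ D q χ)

include h

theorem chi_mul {z z' : X} (hz : z ∈ centerIn D) (hz' : z' ∈ centerIn D) :
    χ (z * z') = χ z * χ z' := by
  obtain ⟨v, hv, hvZ⟩ := h.exists_vec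
  refine smul_left_injective K hv (?_ : χ (z * z') • v = (χ z * χ z') • v)
  rw [← hvZ _ (mul_mem hz hz'), rep_self_mul_apply, hvZ _ hz', map_smul, hvZ _ hz, smul_smul, mul_comm]

theorem chi_one : χ 1 = 1 := by
  obtain ⟨v, hv, hvZ⟩ := h.exists_vec
  refine smul_left_injective K hv (?_ : χ 1 • v = (1 : K) • v)
  rw [← hvZ _ (one_mem _), map_one, Module.End.one_apply, one_smul]

/-- The weight as a homomorphism to the units. -/
noncomputable def chiHom : centerIn D →* Kˣ :=
  MonoidHom.toHomUnits
    { toFun := fun z => χ z
      map_one' := h.chi_one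
      map_mul' := fun a b => h.chi_mul a.2 b.2 }

theorem chiHom_apply (z : centerIn D) : (h.chiHom z : K) = χ z := rfl

theorem chiHom_congr {z z' : centerIn D} (e : (z : X) = z') : h.chiHom z = h.chiHom z' := by
  rw [Subtype.ext e]

/-- The value of the weight on a commutator. -/
noncomputable def beta (a b : D) : Kˣ := h.chiHom ⟨⁅(a : X), (b : X)⁆, h.comm _ a.2 _ b.2⟩

theorem commute_center {z d : X} (hz : z ∈ centerIn D) (hd : d ∈ D) : d * z = z * d :=
  ((mem_centerIn.1 hz).2 d hd).eq

theorem beta_mul_left (a a' b : D) : h.beta (a * a') b = h.beta a b * h.beta a' b := by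
  rw [beta, beta, beta, ← map_mul]
  refine h.chiHom_congr ?_
  push_cast
  have e : ⁅(a : X) * a', (b : X)⁆ = (a : X) * ⁅(a' : X), (b : X)⁆ * (a : X)⁻¹ * ⁅(a : X), (b : X)⁆ := by
    simp only [commutatorElement_def]; group
  rw [e, h.commute_center (h.comm _ a'.2 _ b.2) a.2, mul_inv_cancel_right,
    h.commute_center (h.comm _ a.2 _ b.2) ((centerIn_le D) (h.comm _ a'.2 _ b.2))]

theorem beta_self (a : D) : h.beta a a = 1 := by
  rw [beta, ← map_one h.chiHom]
  exact h.chiHom_congr (commutatorElement_self (a : X))

theorem beta_inv (a b : D) : h.beta a b * h.beta b a = 1 := by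
  rw [beta, beta, ← map_mul, ← map_one h.chiHom]
  exact h.chiHom_congr (by push_cast; rw [← commutatorElement_inv, inv_mul_cancel])

theorem beta_mul_right (a b b' : D) : h.beta a (b * b') = h.beta a b * h.beta a b' := by
  have e : ∀ x y : D, h.beta x y = (h.beta y x)⁻¹ := fun x y => eq_inv_of_mul_eq_one_left (h.beta_inv x y)
  rw [e a, h.beta_mul_left, mul_inv, ← e, ← e]

theorem beta_one_left (b : D) : h.beta 1 b = 1 := by
  have := h.beta_mul_left 1 1 b
  rwa [one_mul, left_eq_mul] at this

/-- The radical of the weight. -/
noncomputable def orth : Subgroup D where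
  carrier := {a | ∀ b, h.beta a b = 1}
  one_mem' := h.beta_one_left
  mul_mem' := fun {a a'} ha ha' b => by rw [h.beta_mul_left, ha b, ha' b, one_mul]
  inv_mem' := fun {a} ha b => by
    have := h.beta_mul_left a⁻¹ a b
    rwa [inv_mul_cancel, h.beta_one_left, ha b, mul_one, eq_comm] at this

theorem mem_orth {a : D} : a ∈ h.orth ↔ ∀ b, h.beta a b = 1 := Iff.rfl

theorem center_le_orth {a : D} (ha : (a : X) ∈ centerIn D) : a ∈ h.orth := fun b => by
  rw [beta, ← map_one h.chiHom]
  exact h.chiHom_congr (commutatorElement_eq_one_iff_mul_comm.2 (h.commute_center ha b.2).symm)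

theorem orth_normal : h.orth.Normal := ⟨fun a ha g => by
  have e : g * a * g⁻¹ = ⁅g, a⁆ * a := by rw [commutatorElement_def]; group
  rw [e]
  exact mul_mem (h.center_le_orth (h.comm _ g.2 _ a.2)) ha⟩

/-- The symplectic space of the weight. -/
def Space : Type w := @HasQuotient.Quotient D (Subgroup D) _ h.orth

noncomputable instance : CommGroup h.Space :=
  have := h.orth_normal
  { (inferInstance : Group (D ⧸ h.orth)) with
    mul_comm := fun a b => by
      induction a using QuotientGroup.induction_on with
      | _ a =>
        induction b using QuotientGroup.induction_on with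
        | _ b =>
          refine (QuotientGroup.eq.2 (h.center_le_orth ?_) : ((a * b : D) : D ⧸ h.orth) = ((b * a : D) : _))
          have e : (((a * b)⁻¹ * (b * a) : D) : X) = ⁅((b : X))⁻¹, ((a : X))⁻¹⁆ := by
            push_cast; rw [commutatorElement_def]; group
          rw [e]
          exact h.comm _ (inv_mem b.2) _ (inv_mem a.2) }

instance [Finite X] : Finite h.Space :=
  have := h.orth_normal
  inferInstanceAs (Finite (D ⧸ h.orth))

/-- The projection onto the symplectic space. -/
noncomputable def proj : D →* h.Space :=
  have := h.orth_normal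
  QuotientGroup.mk' h.orth

theorem proj_surjective : Function.Surjective h.proj :=
  @QuotientGroup.mk'_surjective D _ h.orth h.orth_normal

theorem proj_eq_one {a : D} : h.proj a = 1 ↔ a ∈ h.orth :=
  @QuotientGroup.eq_one_iff D _ h.orth h.orth_normal a

theorem proj_eq {a b : D} : h.proj a = h.proj b ↔ a⁻¹ * b ∈ h.orth := QuotientGroup.eq

theorem proj_pow (a : D) : h.proj a ^ q = 1 := by
  rw [← map_pow, h.proj_eq_one]
  exact h.center_le_orth (by push_cast; exact h.pow _ a.2)

theorem space_pow (s : h.Space) : s ^ q = 1 := by
  obtain ⟨a, rfl⟩ := h.proj_surjective s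
  exact h.proj_pow a

theorem beta_eq_of_proj_eq {a a' : D} (e : h.proj a = h.proj a') (b : D) :
    h.beta a b = h.beta a' b := by
  rw [← mul_inv_cancel_left a a', h.beta_mul_left, (h.mem_orth.1 (h.proj_eq.1 e)) b, mul_one]

/-- The pairing of the weight. -/
noncomputable def pairing : Pairing h.Space Kˣ :=
  have := h.orth_normal
  let f : D →* D →* Kˣ :=
    { toFun := fun a => { toFun := h.beta a, map_one' := by
                            rw [← h.beta_inv a 1, h.beta_one_left, mul_one]
                          map_mul' := h.beta_mul_right a }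
      map_one' := MonoidHom.ext h.beta_one_left
      map_mul' := fun a a' => MonoidHom.ext (h.beta_mul_left a a') }
  { toFun := QuotientGroup.lift h.orth
      { toFun := fun a => QuotientGroup.lift h.orth (f a) fun b hb => MonoidHom.mem_ker.2 (by
            show h.beta a b = 1
            rw [← h.beta_inv a b, h.mem_orth.1 hb a, mul_one])
        map_one' := MonoidHom.ext fun s => by
          induction s using QuotientGroup.induction_on with
          | _ b => exact h.beta_one_left b
        map_mul' := fun a a' => MonoidHom.ext fun s => by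
          induction s using QuotientGroup.induction_on with
          | _ b => exact h.beta_mul_left a a' b }
      fun a ha => MonoidHom.mem_ker.2 (MonoidHom.ext fun s => by
        induction s using QuotientGroup.induction_on with
        | _ b => exact h.mem_orth.1 ha b)
    alt := fun s => by
      induction s using QuotientGroup.induction_on with
      | _ a => exact h.beta_self a
    nondeg := fun s hs => by
      induction s using QuotientGroup.induction_on with
      | _ a => exact (QuotientGroup.eq_one_iff a).2 fun b => hs (b : D ⧸ h.orth) }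

theorem pairing_proj (a b : D) : h.pairing.toFun (h.proj a) (h.proj b) = h.beta a b := rfl

/-- An element stabilising the weight, as an automorphism of `D`. -/
noncomputable def conjD (g : X) : MulAut D :=
  have := h.normal
  MulAut.conjNormal g

theorem conjD_apply (g : X) (a : D) : ((h.conjD g a : D) : X) = g * a * g⁻¹ := by
  have := h.normal
  exact MulAut.conjNormal_apply g a

theorem beta_conj {g : X} (hg : g ∈ charStabilizer (centerIn D) χ) (a b : D) :
    h.beta (h.conjD g a) (h.conjD g b) = h.beta a b := by
  refine Units.ext ?_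
  show χ ⁅((h.conjD g a : D) : X), ((h.conjD g b : D) : X)⁆ = χ ⁅(a : X), (b : X)⁆
  rw [h.conjD_apply, h.conjD_apply]
  have hc := h.comm _ a.2 _ b.2
  rw [show ⁅g * (a : X) * g⁻¹, g * (b : X) * g⁻¹⁆ = g * ⁅(a : X), (b : X)⁆ * g⁻¹ by
    simp only [commutatorElement_def]; group]
  conv_lhs => rw [← hg.2 _ (conj_mem_of_mem_normalizer hg.1 hc)]
  congr 1
  group

/-- The action of the stabiliser on the symplectic space. -/
noncomputable def act : charStabilizer (centerIn D) χ →* MulAut h.Space :=
  have := h.orth_normal
  have hmap : ∀ g : charStabilizer (centerIn D) χ, h.orth.map (h.conjD g).toMonoidHom = h.orth := fun g => by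
    ext a
    rw [Subgroup.mem_map_equiv]
    constructor
    · intro ha b
      rw [← (h.conjD g).apply_symm_apply a, ← (h.conjD g).apply_symm_apply b, h.beta_conj g.2]
      exact ha _
    · intro ha b
      rw [← h.beta_conj g.2, (h.conjD g).apply_symm_apply]
      exact ha _
  { toFun := fun g => QuotientGroup.congr h.orth h.orth (h.conjD g) (hmap g)
    map_one' := MulEquiv.ext fun s => by
      induction s using QuotientGroup.induction_on with
      | _ a =>
        show ((h.conjD 1 a : D) : D ⧸ h.orth) = (a : D ⧸ h.orth)
        congr 1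
        exact Subtype.ext (by rw [h.conjD_apply]; simp)
    map_mul' := fun g g' => MulEquiv.ext fun s => by
      induction s using QuotientGroup.induction_on with
      | _ a =>
        show ((h.conjD (g * g' : X) a : D) : D ⧸ h.orth) = ((h.conjD g (h.conjD g' a) : D) : D ⧸ h.orth)
        congr 1
        exact Subtype.ext (by rw [h.conjD_apply, h.conjD_apply, h.conjD_apply]; group) }

theorem act_proj (g : charStabilizer (centerIn D) χ) (a : D) :
    h.act g (h.proj a) = h.proj (h.conjD g a) := rfl

theorem act_preserves (g : charStabilizer (centerIn D) χ) : h.pairing.Preserves (h.act g) := by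
  intro s t
  obtain ⟨a, rfl⟩ := h.proj_surjective s
  obtain ⟨b, rfl⟩ := h.proj_surjective t
  rw [h.act_proj, h.act_proj, h.pairing_proj, h.pairing_proj, h.beta_conj g.2]

end WeightCtx

end CfsgLib.TwoLength
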