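import Cfsg.Agent.Lib.TwoLength.TopMain
import Cfsg.Agent.Lib.PLength.Exponent
import Cfsg.Agent.Lib.PLength.DerivedBound
import Cfsg.Agent.Lib.FixedFree.BaseChange

/-!
# Gross: `l₂ ≤ 2 e₂ - 1`
-/

set_option autoImplicit false

namespace CfsgLib.TwoLength

open Subgroup Module CfsgLib.PLength

universe u

variable {G : Type u} [Group G] [Finite G]

theorem pow_eq_one_of_two_pow {e : ℕ} (hexp : ∀ S : Sylow 2 G, ∀ x ∈ (S : Subgroup G), x ^ 2 ^ e = 1)
    {x : G} {k : ℕ} (hx : x ^ 2 ^ k = 1) : x ^ 2 ^ e = 1 := by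
  have hz : IsPGroup 2 (zpowers x) := by
    obtain ⟨i, -, hi⟩ := (Nat.dvd_prime_pow Nat.prime_two).1 (orderOf_dvd_of_pow_eq_one hx)
    exact IsPGroup.of_card (n := i) ((Nat.card_zpowers x).trans hi)
  obtain ⟨S, hS⟩ := hz.exists_le_sylow
  exact hexp S x (hS (mem_zpowers x))

theorem extend_sub_one_pow_eq_zero {k : Type} [Field k] {K : Type} [Field K] [Algebra k K]
    {V : Type u} [AddCommGroup V] [Module k V] (ρ : Representation k G V) (x : G) {n : ℕ}
    (h : (ρ x - 1) ^ n = 0) : (FixedFree.extend K ρ x - 1) ^ n = 0 := by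
  have h1 := congrArg (Module.End.baseChangeHom k K V) h
  rw [map_pow, map_sub, map_one, map_zero] at h1
  exact h1

/-- In the top of a primitive group the tops lie in `O_{2', 2}`. -/
theorem top_mem_of_primitive {V M : Subgroup G} (hVM : IsPrimitiveConfig 2 V M)
    [Group.IsSolvable G] {e : ℕ} (he : 1 ≤ e)
    (hexp : ∀ S : Sylow 2 G, ∀ x ∈ (S : Subgroup G), x ^ 2 ^ e = 1)
    [(Cfsg.fittingSubgroup M).Normal] [(fittingTwo M).Normal] {x : M} (hx : x ^ 2 ^ e = 1) :
    x ^ 2 ^ (e - 1) ∈ fittingTwo M := by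
  have hN := hVM.elemNormal
  have := hVM.normal
  set ρ := hN.conjRep.comp M.subtype with hρ
  have hinj : Function.Injective ρ := (injective_iff_map_eq_one _).2 fun m hm => Subtype.ext (by
    have hmem : (m : G) ∈ V ⊓ M := ⟨hVM.centralizer_le (mem_centralizer_iff.2 fun a ha =>
      (hN.conjRep_eq_one.1 hm a ha).symm), m.2⟩
    rwa [hVM.inf_eq, mem_bot] at hmem)
  let K := AlgebraicClosure (ZMod 2)
  have : CharP K 2 := charP_of_injective_algebraMap (algebraMap (ZMod 2) K).injective 2
  have hctx : TopCtx (FixedFree.extend K ρ) e :=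
    { solvable := inferInstance
      core := hVM.pCore_complement
      inj := fun a b hab => hinj ((FixedFree.extend_eq_iff K ρ a b).1 hab)
      one_le := he
      exp := fun y k hy => Subtype.ext (by
        rw [SubgroupClass.coe_pow, OneMemClass.coe_one]
        refine pow_eq_one_of_two_pow hexp (k := k) ?_
        rw [← SubgroupClass.coe_pow, hy, OneMemClass.coe_one])
      deg_zero := fun y hy => extend_sub_one_pow_eq_zero ρ y (hN.sub_one_pow_eq_zero fun a ha =>
        mul_pow_eq_one_of_sylow hVM.isPGroup hexp (x := (y : G)) (j := e)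
          (by rw [← SubgroupClass.coe_pow, hy, OneMemClass.coe_one]) ha) }
  exact hctx.top_mem hx

/-- Gross: `l₂ ≤ 2 e₂ - 1`. -/
theorem pSeriesLE_two_mul_exponent_sub_one : ∀ (e : ℕ) {G : Type u} [Group G] [Finite G],
    Group.IsSolvable G → (∀ S : Sylow 2 G, ∀ x ∈ (S : Subgroup G), x ^ 2 ^ (e + 1) = 1) →
    PSeriesLE 2 (2 * e + 1) G := by
  classical
  intro e
  induction e with
  | zero =>
    intro G _ _
    generalize hN : Nat.card G = N
    induction N using Nat.strong_induction_on generalizing G with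
    | _ N ihN =>
    intro hs hexp
    subst hN
    by_contra hG
    have hq : ∀ A : Subgroup G, ∀ _ : A.Normal, A ≠ ⊥ → PSeriesLE 2 (0 + 1) (G ⧸ A) := by
      intro A hA hAb
      refine ihN _ ?_ rfl inferInstance fun S x hx => ?_
      · have h1 : Nat.card (G ⧸ A) * Nat.card A = Nat.card G :=
          (Subgroup.card_eq_card_quotient_mul_card_subgroup A).symm
        have h2 : 1 < Nat.card A := A.one_lt_card_iff_ne_bot.2 hAb
        have h3 : 0 < Nat.card (G ⧸ A) := Nat.card_pos
        nlinarith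
      · obtain ⟨P, φ, hφ⟩ := exists_sylow_surjective (QuotientGroup.mk'_surjective A) S
        obtain ⟨y, hy⟩ := hφ ⟨x, hx⟩
        have h1 := congrArg φ (show y ^ 2 ^ (0 + 1) = 1 from Subtype.ext (hexp P _ y.2))
        rw [map_pow, hy, map_one] at h1
        exact congrArg Subtype.val h1
    obtain ⟨_, hps'⟩ := isPSolvable_of_isSolvable (p := 2) _ G le_rfl hs
    have hps : Cfsg.IsPSolvable 2 G := hps'.isPSolvable
    obtain ⟨V, M, hVM, hM⟩ := exists_primitiveConfig hps (k := 0) hG hq
    refine hM (pSeriesLE_zero.2 (coprime_card_of_sylow_subsingleton fun S => ?_))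
    obtain ⟨P, hVP, φ, -, hφ⟩ := exists_sylow_injective_of_primitive hVM S
    have hone : ∀ s : (S : Subgroup M), s = 1 := fun s => by
      have hsP : ((s : M) : G) ∈ (P : Subgroup G) := by rw [← hφ s]; exact (φ s).2
      have hc : ∀ a ∈ (P : Subgroup G), ∀ b ∈ (P : Subgroup G), a * b = b * a := fun a ha b hb => by
        have sq : ∀ c ∈ (P : Subgroup G), c⁻¹ = c := fun c hc =>
          inv_eq_of_mul_eq_one_right (by rw [← pow_two]; simpa using hexp P c hc)
        calc a * b = (a * b)⁻¹ := (sq _ (mul_mem ha hb)).symm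
          _ = b * a := by rw [mul_inv_rev, sq a ha, sq b hb]
      have : ((s : M) : G) ∈ V ⊓ M :=
        ⟨hVM.centralizer_le (mem_centralizer_iff.2 fun a ha => hc a (hVP ha) _ hsP), (s : M).2⟩
      rw [hVM.inf_eq, mem_bot] at this
      exact Subtype.ext (Subtype.ext this)
    exact ⟨fun a b => (hone a).trans (hone b).symm⟩
  | succ e ih =>
    intro G _ _
    generalize hN : Nat.card G = N
    induction N using Nat.strong_induction_on generalizing G with
    | _ N ihN =>
    intro hs hexp
    subst hN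
    by_contra hG
    have hq : ∀ A : Subgroup G, ∀ _ : A.Normal, A ≠ ⊥ →
        PSeriesLE 2 (2 * (e + 1) + 1) (G ⧸ A) := by
      intro A hA hAb
      refine ihN _ ?_ rfl inferInstance fun S x hx => ?_
      · have h1 : Nat.card (G ⧸ A) * Nat.card A = Nat.card G :=
          (Subgroup.card_eq_card_quotient_mul_card_subgroup A).symm
        have h2 : 1 < Nat.card A := A.one_lt_card_iff_ne_bot.2 hAb
        have h3 : 0 < Nat.card (G ⧸ A) := Nat.card_pos
        nlinarith
      · obtain ⟨P, φ, hφ⟩ := exists_sylow_surjective (QuotientGroup.mk'_surjective A) S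
        obtain ⟨y, hy⟩ := hφ ⟨x, hx⟩
        have h1 := congrArg φ (show y ^ 2 ^ (e + 1 + 1) = 1 from Subtype.ext (hexp P _ y.2))
        rw [map_pow, hy, map_one] at h1
        exact congrArg Subtype.val h1
    obtain ⟨_, hps'⟩ := isPSolvable_of_isSolvable (p := 2) _ G le_rfl hs
    have hps : Cfsg.IsPSolvable 2 G := hps'.isPSolvable
    obtain ⟨V, M, hVM, hM⟩ := exists_primitiveConfig hps (k := 2 * (e + 1)) hG hq
    apply hM
    set F := Cfsg.fittingSubgroup M with hF
    have hFn : F.Normal := CfsgLib.Solvable.fittingSubgroup_normal M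
    set T₀ := fittingTwo M with hT₀
    have hT₀n : T₀.Normal := fittingTwo_normal M
    have hFodd : (Nat.card F).Coprime 2 := by
      rw [Nat.coprime_comm, Nat.prime_two.coprime_iff_not_dvd]
      intro hd
      obtain ⟨g, hg⟩ := exists_prime_orderOf_dvd_card' 2 hd
      have h1 : (g : M) = 1 := eq_one_of_mem_fitting hVM.pCore_complement g.2 (k := 1)
        (by rw [pow_one, ← hg, ← orderOf_coe g]; exact pow_orderOf_eq_one _)
      rw [show g = 1 from Subtype.ext h1, orderOf_one] at hg
      omega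
    have hexpM : ∀ S : Sylow 2 (M ⧸ T₀), ∀ x ∈ (S : Subgroup (M ⧸ T₀)), x ^ 2 ^ (e + 1) = 1 := by
      intro S x hx
      obtain ⟨S', rfl⟩ := Sylow.mapSurjective_surjective (QuotientGroup.mk'_surjective T₀) 2 S
      obtain ⟨x', hx', rfl⟩ : x ∈ (S' : Subgroup M).map (QuotientGroup.mk' T₀) := hx
      obtain ⟨P, φ, -, hφ⟩ := exists_sylow_injective S'
      have hx2 : x' ^ 2 ^ (e + 1 + 1) = 1 := Subtype.ext (by
        rw [SubgroupClass.coe_pow, OneMemClass.coe_one, ← hφ ⟨x', hx'⟩]
        exact hexp P _ (φ ⟨x', hx'⟩).2)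
      rw [← map_pow, QuotientGroup.mk'_apply, QuotientGroup.eq_one_iff]
      exact top_mem_of_primitive hVM (e := e + 1 + 1) (by omega) hexp hx2
    refine PSeriesLE.of_quotient_pPrime F hFodd ?_
    set U := Cfsg.pCore 2 (M ⧸ F)
    have hUn := CfsgLib.Solvable.pCore_normal 2 (M ⧸ F)
    refine PSeriesLE.of_quotient_pgroup U (CfsgLib.Solvable.pCore_isPGroup 2)
      ((ih inferInstance hexpM).of_surjective
        (QuotientGroup.lift T₀ ((QuotientGroup.mk' U).comp (QuotientGroup.mk' F)) fun g hg =>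
          (QuotientGroup.eq_one_iff (QuotientGroup.mk' F g)).2 hg) ?_)
    intro g
    obtain ⟨g, rfl⟩ := QuotientGroup.mk'_surjective U g
    obtain ⟨g, rfl⟩ := QuotientGroup.mk'_surjective F g
    exact ⟨(g : M ⧸ T₀), rfl⟩

end CfsgLib.TwoLength
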