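import Mathlib.Algebra.Group.End
import Mathlib.GroupTheory.OrderOfElement
import Mathlib.GroupTheory.Index
import Mathlib.GroupTheory.Complement

/-!
# Abelian groups with an alternating pairing and their automorphisms
-/

set_option autoImplicit false

namespace CfsgLib.TwoLength

open Subgroup

universe u v

/-- A nondegenerate alternating pairing on an abelian group. -/
structure Pairing (S : Type u) (C : Type v) [CommGroup S] [CommGroup C] where
  /-- The pairing. -/
  toFun : S →* S →* C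
  alt : ∀ s, toFun s s = 1
  nondeg : ∀ s, (∀ t, toFun s t = 1) → s = 1

variable {S : Type u} [CommGroup S] {C : Type v} [CommGroup C]

/-- An automorphism respecting the pairing. -/
def Pairing.Preserves (B : Pairing S C) (g : MulAut S) : Prop :=
  ∀ s t, B.toFun (g s) (g t) = B.toFun s t

/-- The map `s ↦ g s / s`. -/
def dispHom (g : MulAut S) : S →* S where
  toFun s := g s * s⁻¹
  map_one' := by simp
  map_mul' a b := by
    rw [map_mul, mul_inv]
    exact mul_mul_mul_comm _ _ _ _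

/-- The displacements of `g`. -/
def disp (g : MulAut S) : Subgroup S := (dispHom g).range

/-- The fixed points of `g`. -/
def fixedSub (g : MulAut S) : Subgroup S := (dispHom g).ker

theorem mem_fixedSub {g : MulAut S} {s : S} : s ∈ fixedSub g ↔ g s = s := by
  rw [fixedSub, MonoidHom.mem_ker]
  exact mul_inv_eq_one

theorem disp_mem (g : MulAut S) (s : S) : g s * s⁻¹ ∈ disp g := ⟨s, rfl⟩

theorem card_fixedSub_mul [Finite S] (g : MulAut S) :
    Nat.card (fixedSub g) * Nat.card (disp g) = Nat.card S := by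
  rw [← Subgroup.card_mul_index (fixedSub g), fixedSub, Subgroup.index_ker]
  rfl

theorem apply_mem_disp {g h : MulAut S} (hgh : g * h = h * g) {s : S} (hs : s ∈ disp h) :
    g s ∈ disp h := by
  obtain ⟨t, rfl⟩ := hs
  refine ⟨g t, ?_⟩
  show h (g t) * (g t)⁻¹ = g (h t * t⁻¹)
  rw [map_mul, map_inv, ← MulAut.mul_apply, ← hgh, MulAut.mul_apply]

theorem apply_mem_fixedSub {g h : MulAut S} (hgh : g * h = h * g) {s : S} (hs : s ∈ fixedSub h) :
    g s ∈ fixedSub h := by
  rw [mem_fixedSub] at hs ⊢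
  rw [← MulAut.mul_apply, ← hgh, MulAut.mul_apply, hs]

theorem conj_apply_mem_disp {g h : MulAut S} {s : S} (hs : s ∈ disp h) :
    g s ∈ disp (g * h * g⁻¹) := by
  obtain ⟨t, rfl⟩ := hs
  refine ⟨g t, ?_⟩
  show (g * h * g⁻¹) (g t) * (g t)⁻¹ = g (h t * t⁻¹)
  simp [MulAut.mul_apply]

theorem conj_apply_mem_fixedSub {g h : MulAut S} {s : S} (hs : s ∈ fixedSub h) :
    g s ∈ fixedSub (g * h * g⁻¹) := by
  rw [mem_fixedSub] at hs ⊢
  simp [MulAut.mul_apply, hs]

variable {B : Pairing S C}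

theorem Pairing.swap_eq_one {s t : S} (h : B.toFun s t = 1) : B.toFun t s = 1 := by
  have h1 := B.alt (s * t)
  simp only [map_mul, MonoidHom.mul_apply, B.alt, h, one_mul, mul_one] at h1
  exact h1

/-- The automorphisms respecting the pairing. -/
def Pairing.isom (B : Pairing S C) : Subgroup (MulAut S) where
  carrier := {g | B.Preserves g}
  one_mem' := fun _ _ => rfl
  mul_mem' := fun {a b} ha hb s t => (ha _ _).trans (hb s t)
  inv_mem' := fun {a} ha s t => by
    have h := ha (a⁻¹ s) (a⁻¹ t)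
    rw [MulAut.apply_inv_self, MulAut.apply_inv_self] at h
    exact h.symm

theorem pairing_fixed_disp {g : MulAut S} (hg : B.Preserves g) {c d : S} (hc : c ∈ fixedSub g)
    (hd : d ∈ disp g) : B.toFun c d = 1 := by
  obtain ⟨t, rfl⟩ := hd
  show B.toFun c (g t * t⁻¹) = 1
  conv_lhs => rw [map_mul, map_inv]; arg 1; rw [← mem_fixedSub.1 hc]
  rw [hg, mul_inv_cancel]

section Involution

variable [Finite S] {q : ℕ} {y : MulAut S}

omit [Finite S] in
theorem eq_one_of_sq {s : S} (hodd : Odd (orderOf s)) (h : s ^ 2 = 1) : s = 1 := by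
  rcases (Nat.dvd_prime Nat.prime_two).1 (orderOf_dvd_of_pow_eq_one h) with h1 | h1
  · exact orderOf_eq_one_iff.1 h1
  · exact absurd (h1 ▸ hodd) (Nat.not_odd_iff_even.2 even_two)

omit [Finite S] in
theorem apply_disp {hy : y ^ 2 = 1} {d : S} (hd : d ∈ disp y) : y d = d⁻¹ := by
  obtain ⟨t, rfl⟩ := hd
  show y (y t * t⁻¹) = (y t * t⁻¹)⁻¹
  rw [map_mul, map_inv, ← MulAut.mul_apply, ← sq, hy, MulAut.one_apply, mul_inv, inv_inv, mul_comm]

variable (hodd : ∀ s : S, Odd (orderOf s)) (hy : y ^ 2 = 1)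
include hodd hy

theorem disjoint_fixed_disp {s : S} (h1 : s ∈ fixedSub y) (h2 : s ∈ disp y) : s = 1 := by
  refine eq_one_of_sq (hodd s) ?_
  have := (apply_disp (hy := hy) h2).symm.trans (mem_fixedSub.1 h1)
  rw [sq]
  nth_rw 1 [← this]
  exact inv_mul_cancel s

theorem exists_decomp (s : S) : ∃ c ∈ fixedSub y, ∃ d ∈ disp y, c * d = s := by
  have h : (fixedSub y).IsComplement' (disp y) :=
    Subgroup.isComplement'_of_card_mul_and_disjoint (card_fixedSub_mul y)
      (disjoint_iff.2 (eq_bot_iff.2 fun s hs => Subgroup.mem_bot.2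
        (disjoint_fixed_disp hodd hy hs.1 hs.2)))
  obtain ⟨⟨⟨c, hc⟩, ⟨d, hd⟩⟩, hcd⟩ := h.surjective s
  exact ⟨c, hc, d, hd, hcd⟩

theorem nondeg_disp (hB : B.Preserves y) {d : S} (hd : d ∈ disp y)
    (h : ∀ d' ∈ disp y, B.toFun d d' = 1) : d = 1 := by
  refine B.nondeg d fun t => ?_
  obtain ⟨c, hc, d', hd', rfl⟩ := exists_decomp hodd hy t
  rw [map_mul, h d' hd', Pairing.swap_eq_one (pairing_fixed_disp hB hc hd), one_mul]

theorem mem_fixedSub_of_orthogonal (hB : B.Preserves y) {s : S}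
    (h : ∀ d ∈ disp y, B.toFun s d = 1) : s ∈ fixedSub y := by
  obtain ⟨c, hc, d, hd, rfl⟩ := exists_decomp hodd hy s
  have hd1 : d = 1 := nondeg_disp hodd hy hB hd fun d' hd' => by
    have h1 := h d' hd'
    rwa [map_mul, MonoidHom.mul_apply, pairing_fixed_disp hB hc hd', one_mul] at h1
  rwa [hd1, mul_one]

end Involution

end CfsgLib.TwoLength
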