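import Cfsg.Agent.Lib.TwoLength.Plane
import Mathlib.GroupTheory.GroupAction.Quotient
import Mathlib.GroupTheory.IndexNormal
import Mathlib.GroupTheory.Nilpotent
import Mathlib.Tactic.Group

/-!
# A plane element commutes with its conjugates in a `2`-group
-/

set_option autoImplicit false

namespace CfsgLib.TwoLength

open Subgroup

universe u v

/-- A group acting freely outside the identity. -/
theorem card_dvd_card_sub_one {A : Type u} {P : Type v} [Group A] [Finite A] [Group P] [Finite P]
    [MulDistribMulAction A P] (h : ∀ a : A, ∀ p : P, p ≠ 1 → a • p = p → a = 1) :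
    Nat.card A ∣ Nat.card P - 1 := by
  classical
  have : Fintype P := Fintype.ofFinite P
  let _ : MulAction A {p : P // p ≠ 1} :=
    { smul := fun a p => ⟨a • p.1, fun e => p.2 (by rwa [smul_eq_iff_eq_inv_smul, smul_one] at e)⟩
      one_smul := fun p => Subtype.ext (one_smul A p.1)
      mul_smul := fun a b p => Subtype.ext (mul_smul a b p.1) }
  have hcard : Nat.card {p : P // p ≠ 1} = Nat.card P - 1 := by
    rw [Nat.card_eq_fintype_card, Nat.card_eq_fintype_card, Fintype.card_subtype_compl,
      Fintype.card_subtype_eq]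
  rw [← hcard, Nat.card_congr (MulAction.selfEquivSigmaOrbits A {p : P // p ≠ 1})]
  have : Fintype (MulAction.orbitRel.Quotient A {p : P // p ≠ 1}) := Fintype.ofFinite _
  rw [Nat.card_sigma]
  refine Finset.dvd_sum fun o _ => ?_
  rw [Nat.card_congr (MulAction.orbitEquivQuotientStabilizer A o.out)]
  have hbot : MulAction.stabilizer A o.out = ⊥ := (Subgroup.eq_bot_iff_forall _).2 fun a ha =>
    h a o.out.1 o.out.2 (congrArg Subtype.val (MulAction.mem_stabilizer_iff.1 ha))
  show _ ∣ (MulAction.stabilizer A o.out).index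
  rw [hbot, Subgroup.index_bot]

variable {S : Type u} [CommGroup S] [Finite S] {C : Type v} [CommGroup C] {B : Pairing S C}
  {q : ℕ} [hq : Fact q.Prime] {a : ℕ}

/-- The involutions of two plane elements in a `2`-group commute. -/
theorem commute_invol_of_isPGroup (T : Subgroup (MulAut S)) (hT : IsPGroup 2 T) (hTB : T ≤ B.isom)
    {z z' : MulAut S} (hz : z ∈ T) (hz' : z' ∈ T) (h : IsPlane B a q z) (h' : IsPlane B a q z') :
    IsPlane.invol z a * IsPlane.invol z' a = IsPlane.invol z' a * IsPlane.invol z a := by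
  obtain ⟨n, hn⟩ : ∃ n, Nat.card T = n := ⟨_, rfl⟩
  induction n using Nat.strong_induction_on generalizing T z z' with
  | _ n ih =>
    by_cases htop : (zpowers z).subgroupOf T = ⊤
    · obtain ⟨i, hi⟩ := mem_zpowers_iff.1 (subgroupOf_eq_top.1 htop hz')
      rw [← hi, IsPlane.invol, IsPlane.invol]
      exact (((Commute.refl z).zpow_right i).pow_pow _ _).eq
    obtain ⟨H, hH, hzH⟩ := (eq_top_or_exists_le_coatom _).resolve_left htop
    have : Group.IsNilpotent T := hT.isNilpotent
    have hHn : H.Normal := NormalizerCondition.normal_of_coatom H Group.normalizerCondition_of_isNilpotent hH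
    have hzH' : (⟨z, hz⟩ : T) ∈ H := hzH (mem_subgroupOf.2 (mem_zpowers z))
    set H' := H.map T.subtype
    have hmem : ∀ i : ℕ, z' ^ i * z * (z' ^ i)⁻¹ ∈ H' := fun i =>
      ⟨_, hHn.conj_mem _ hzH' (⟨z', hz'⟩ ^ i), by simp⟩
    have hlt : Nat.card H' < n := by
      rw [← hn, Subgroup.card_map_of_injective T.subtype_injective]
      refine lt_of_le_of_ne (Subgroup.card_le_card_group H) fun e => hH.1 ?_
      exact Subgroup.eq_top_of_card_eq H e
    have hle : H' ≤ T := map_subtype_le H
    have hu : ∀ i : ℕ, B.Preserves (z' ^ i) := fun i =>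
      pow_mem (show z' ∈ B.isom from h'.preserves) i
    exact h.commute_invol h' fun i j =>
      ih _ hlt H' (hT.to_le hle) (hle.trans hTB) (hmem i) (hmem j) (h.conj (hu i)) (h.conj (hu j)) rfl

/-- A plane element commutes with its conjugates in a `2`-group. -/
theorem IsPlane.commute_conj {z : MulAut S} (h : IsPlane B a q z) (T : Subgroup (MulAut S))
    (hT : IsPGroup 2 T) (hTB : T ≤ B.isom) (hz : z ∈ T) {u : MulAut S} (hu : u ∈ T) :
    z * (u * z * u⁻¹) = u * z * u⁻¹ * z := by
  classical
  set z' := u * z * u⁻¹ with hz'def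
  have h' : IsPlane B a q z' := h.conj (hTB hu)
  have hc := commute_invol_of_isPGroup T hT hTB hz (mul_mem (mul_mem hu hz) (inv_mem hu)) h h'
  set y := invol z a with hy
  have hy' : invol z' a = u * y * u⁻¹ := by rw [invol, hz'def, conj_pow]; rfl
  have hzy : z * y = y * z := (Commute.self_pow z _).eq
  have hzy' : z' * invol z' a = invol z' a * z' := (Commute.self_pow z' _).eq
  rcases h.eq_or_le h' hc with hP | hP
  · -- one plane
    have huP : ∀ d ∈ disp y, u d ∈ disp y := fun d hd => by
      rw [← hP, hy']; exact conj_apply_mem_disp hd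
    let TP : Subgroup (MulAut S) :=
      { carrier := {t | t ∈ T ∧ ∀ d, t d ∈ disp y ↔ d ∈ disp y}
        one_mem' := ⟨one_mem T, fun d => Iff.rfl⟩
        mul_mem' := fun {s t} hs ht => ⟨mul_mem hs.1 ht.1, fun d => (hs.2 (t d)).trans (ht.2 d)⟩
        inv_mem' := fun {t} ht => ⟨inv_mem ht.1, fun d => by
          rw [← ht.2 (t⁻¹ d), MulAut.apply_inv_self]⟩ }
    have hbij : ∀ t : MulAut S, (∀ d ∈ disp y, t d ∈ disp y) → ∀ d, t d ∈ disp y ↔ d ∈ disp y := by
      intro t ht d
      refine ⟨fun hd => ?_, ht d⟩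
      let f : disp y → disp y := fun e => ⟨t e, ht e e.2⟩
      have hf : Function.Injective f := fun e e' he => Subtype.ext (t.injective (congrArg Subtype.val he))
      obtain ⟨e, he⟩ := Finite.injective_iff_surjective.1 hf ⟨t d, hd⟩
      rw [← t.injective (congrArg Subtype.val he)]
      exact e.2
    have huTP : u ∈ TP := ⟨hu, hbij u huP⟩
    have hzTP : z ∈ TP := ⟨hz, hbij z fun d hd => apply_mem_disp hzy hd⟩
    let r : TP →* MulAut (disp y) :=
      { toFun := fun t =>
          { toFun := fun d => ⟨(t : MulAut S) d, (t.2.2 d).2 d.2⟩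
            invFun := fun d => ⟨(t : MulAut S)⁻¹ d, ((inv_mem t.2 : _ ∈ TP).2 d).2 d.2⟩
            left_inv := fun d => Subtype.ext (MulAut.inv_apply_self _ _ _)
            right_inv := fun d => Subtype.ext (MulAut.apply_inv_self _ _ _)
            map_mul' := fun d e => Subtype.ext (map_mul (t : MulAut S) (d : S) e) }
        map_one' := rfl
        map_mul' := fun s t => rfl }
    have hTP : IsPGroup 2 TP := hT.to_le fun t ht => ht.1
    have hR : IsPGroup 2 r.range := hTP.of_surjective r.rangeRestrict r.rangeRestrict_surjective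
    have hdvd : Nat.card r.range ∣ Nat.card (disp y) - 1 := by
      refine card_dvd_card_sub_one fun g d hd1 hgd => ?_
      obtain ⟨t, ht⟩ := g.2
      obtain ⟨k, hk⟩ := hT ⟨t.1, t.2.1⟩
      refine Subtype.ext (ht.symm.trans (MulEquiv.ext fun e => Subtype.ext ?_))
      refine fix_plane h.q_ne_two h.exp (hTB t.2.1) (congrArg Subtype.val hk) h.card_disp
        (fun s hs => h.nondeg hs) (fun s hs => (t.2.2 s).2 hs) d.2
        (fun e => hd1 (Subtype.ext e)) ?_ e.2
      have h1 : ((g : MulAut (disp y)) d : S) = d := congrArg Subtype.val hgd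
      rw [← ht] at h1
      exact h1
    rw [show Nat.card (disp y) = q ^ 2 from h.card_disp] at hdvd
    have h2le : (2 : ℕ) ≤ 2 ^ a := le_self_pow₀ (by norm_num) (by have := h.two_le; omega)
    have hdvd2 : Nat.card r.range ∣ 2 ^ a * 2 := by
      obtain ⟨m, hm⟩ := IsPGroup.iff_card.1 hR
      rw [hm] at hdvd ⊢
      obtain ⟨b, hb⟩ : ∃ b, a = b + 2 := ⟨a - 2, by have := h.two_le; omega⟩
      have hodd : Odd (2 ^ (a - 1) - 1) := by
        rw [hb, show b + 2 - 1 = b + 1 by omega, pow_succ]
        have := Nat.one_le_two_pow (n := b)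
        exact ⟨2 ^ b - 1, by omega⟩
      have hq2 : q ^ 2 - 1 = (2 ^ a * 2) * (2 ^ (a - 1) - 1) := by
        have hq1 : q = 2 ^ a - 1 := by have := h.card_q; omega
        rw [hq1, hb, show b + 2 - 1 = b + 1 by omega, pow_add, pow_add]
        obtain ⟨c, hc⟩ : ∃ c, 2 ^ b = c + 1 := ⟨2 ^ b - 1, by have := Nat.one_le_two_pow (n := b); omega⟩
        rw [hc]
        norm_num
        have e1 : (c + 1) * 4 - 1 = 4 * c + 3 := by omega
        have e2 : (c + 1) * 2 - 1 = 2 * c + 1 := by omega
        rw [e1, e2]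
        have e3 : (4 * c + 3) ^ 2 = 8 * ((c + 1) * (2 * c + 1)) + 1 := by ring
        rw [e3, Nat.add_sub_cancel]
        ring
      rw [hq2] at hdvd
      exact (((Nat.coprime_two_left.2 hodd).pow_left m)).dvd_of_dvd_mul_right hdvd
    have hord : orderOf (r ⟨z, hzTP⟩) = 2 ^ a := by
      obtain ⟨b, rfl⟩ : ∃ b, a = b + 1 := ⟨a - 1, by have := h.two_le; omega⟩
      refine orderOf_eq_prime_pow (p := 2) (fun e => ?_) ?_
      · have hd : ∀ d ∈ disp y, d = 1 := fun d hd => by
          rw [← map_pow] at e
          have h2 : y d = d := by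
            have := congrArg (fun g : MulAut (disp y) => ((g ⟨d, hd⟩ : disp y) : S)) e
            rw [hy, invol, Nat.add_sub_cancel]
            exact this
          exact disjoint_fixed_disp h.odd h.invol_sq (mem_fixedSub.2 h2) hd
        have hcard := h.card_disp
        rw [show disp (z ^ 2 ^ (b + 1 - 1)) = ⊥ from (Subgroup.eq_bot_iff_forall _).2 hd,
          Subgroup.card_bot] at hcard
        exact absurd hcard (Nat.ne_of_lt (Nat.one_lt_pow (by norm_num) hq.out.one_lt))
      · rw [← map_pow, show (⟨z, hzTP⟩ : TP) ^ 2 ^ (b + 1) = 1 from Subtype.ext h.pow_eq_one, map_one]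
    set L := (zpowers (r ⟨z, hzTP⟩)).subgroupOf r.range with hL
    have hLn : L.Normal := by
      have hidx : L.index ≤ 2 := by
        have hc1 := Subgroup.card_mul_index L
        rw [Nat.card_congr (subgroupOfEquivOfLe (zpowers_le.2 (show r ⟨z, hzTP⟩ ∈ r.range from ⟨_, rfl⟩))).toEquiv, Nat.card_zpowers,
          hord] at hc1
        have := Nat.le_of_dvd (by positivity) hdvd2
        rw [← hc1] at this
        exact Nat.le_of_mul_le_mul_left this (by positivity)
      rcases Nat.lt_or_ge L.index 2 with hlt | hge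
      · have : L.index = 1 := by
          have := L.index_ne_zero_of_finite
          omega
        rw [Subgroup.index_eq_one.1 this]; infer_instance
      · exact Subgroup.normal_of_index_eq_two (le_antisymm hidx hge)
    have hz'P : r (⟨u, huTP⟩ * ⟨z, hzTP⟩ * ⟨u, huTP⟩⁻¹) ∈ zpowers (r ⟨z, hzTP⟩) := by
      have := hLn.conj_mem ⟨r ⟨z, hzTP⟩, _, rfl⟩ (mem_subgroupOf.2 (mem_zpowers _)) ⟨r ⟨u, huTP⟩, _, rfl⟩
      rw [map_mul, map_mul, map_inv]
      exact mem_subgroupOf.1 this
    obtain ⟨i, hi⟩ := mem_zpowers_iff.1 hz'P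
    have hzi : z ^ i = z' := by
      refine MulEquiv.ext fun s => ?_
      obtain ⟨c, hc', d, hd, rfl⟩ := exists_decomp h.odd h.invol_sq s
      have hfix : fixedSub (invol z' a) = fixedSub y := by
        refine le_antisymm (fun t ht => ?_) fun t ht => ?_
        · exact mem_fixedSub_of_orthogonal h.odd h.invol_sq h.invol_preserves fun e he =>
            pairing_fixed_disp h'.invol_preserves ht (hP.symm ▸ he)
        · exact mem_fixedSub_of_orthogonal h'.odd h'.invol_sq h'.invol_preserves fun e he =>
            pairing_fixed_disp h.invol_preserves ht (hP ▸ he)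
      have hzc : (z ^ i) c = c := by
        have hz1 : z ∈ MulAction.stabilizer (MulAut S) c := h.apply_fixed hc'
        exact MulAction.mem_stabilizer_iff.1 (zpow_mem hz1 i)
      rw [map_mul, map_mul, hzc, h'.apply_fixed (hfix.symm ▸ hc')]
      congr 1
      have := congrArg (fun g : MulAut (disp y) => ((g ⟨d, hd⟩ : disp y) : S)) hi
      rw [← map_zpow] at this
      exact this
    rw [← hzi]
    exact ((Commute.refl z).zpow_right i).eq
  · -- orthogonal planes
    have hP' : disp y ≤ fixedSub (invol z' a) := by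
      refine (h'.eq_or_le h hc.symm).resolve_left fun e => ?_
      have hb : disp y = ⊥ := (Subgroup.eq_bot_iff_forall _).2 fun d hd =>
        disjoint_fixed_disp h.odd h.invol_sq (hP (e ▸ hd)) hd
      have := h.card_disp
      rw [show disp (z ^ 2 ^ (a - 1)) = ⊥ from hb, Subgroup.card_bot] at this
      exact absurd this (Nat.ne_of_lt (Nat.one_lt_pow (by norm_num) hq.out.one_lt))
    refine MulEquiv.ext fun s => ?_
    obtain ⟨c, hc', d, hd, rfl⟩ := exists_decomp h.odd h.invol_sq s
    have hc2 : z' c ∈ fixedSub y := by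
      obtain ⟨c₁, hc₁, d₁, hd₁, hcd⟩ := exists_decomp h'.odd h'.invol_sq c
      have hc₁' : c₁ ∈ fixedSub y := by
        rw [show c₁ = c * d₁⁻¹ by rw [← hcd, mul_inv_cancel_right]]
        exact mul_mem hc' (inv_mem (hP hd₁))
      rw [← hcd, map_mul, h'.apply_fixed hc₁]
      exact mul_mem hc₁' (hP (apply_mem_disp hzy' hd₁))
    have hzd : z' (z d) = z d := h'.apply_fixed (hP' (apply_mem_disp hzy hd))
    show z (z' (c * d)) = z' (z (c * d))
    rw [map_mul z', h'.apply_fixed (hP' hd), map_mul z,
      h.apply_fixed hc2, map_mul z, h.apply_fixed hc', map_mul z', hzd]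

end CfsgLib.TwoLength
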