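import Cfsg.Agent.Lib.TwoLength.TopStep

/-!
# Tops lie in `O_{2', 2}`
-/

set_option autoImplicit false

namespace CfsgLib.TwoLength

open Subgroup Module CfsgLib.HallHigman CfsgLib.FixedFree
open scoped commutatorElement

universe u v w

/-- The preimage of the `2`-core over the Fitting subgroup. -/
def fittingTwo (M : Type w) [Group M] [(Cfsg.fittingSubgroup M).Normal] : Subgroup M :=
  (Cfsg.pCore 2 (M ⧸ Cfsg.fittingSubgroup M)).comap (QuotientGroup.mk' (Cfsg.fittingSubgroup M))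

theorem fittingTwo_normal (M : Type w) [Group M] [(Cfsg.fittingSubgroup M).Normal] :
    (fittingTwo M).Normal :=
  (CfsgLib.Solvable.pCore_normal 2 _).comap _

theorem fitting_le_fittingTwo (M : Type w) [Group M] [(Cfsg.fittingSubgroup M).Normal] :
    Cfsg.fittingSubgroup M ≤ fittingTwo M := fun g hg => by
  show QuotientGroup.mk' (Cfsg.fittingSubgroup M) g ∈ Cfsg.pCore 2 (M ⧸ Cfsg.fittingSubgroup M)
  rw [QuotientGroup.mk'_apply, (QuotientGroup.eq_one_iff g).2 hg]
  exact one_mem _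

/-- The quotient by the preimage has trivial `2`-core. -/
theorem pCore_quotient_fittingTwo (M : Type w) [Group M] [Finite M]
    [(Cfsg.fittingSubgroup M).Normal] [(fittingTwo M).Normal] :
    Cfsg.pCore 2 (M ⧸ fittingTwo M) = ⊥ := by
  set F := Cfsg.fittingSubgroup M
  let φ : M ⧸ F →* M ⧸ fittingTwo M :=
    QuotientGroup.map F (fittingTwo M) (MonoidHom.id M) (by simpa using fitting_le_fittingTwo M)
  have hker : IsPGroup 2 φ.ker := (CfsgLib.Solvable.pCore_isPGroup 2).to_le fun t ht => by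
    obtain ⟨t, rfl⟩ := QuotientGroup.mk'_surjective F t
    exact ((QuotientGroup.eq_one_iff t).1 ht : t ∈ fittingTwo M)
  have hn := CfsgLib.Solvable.pCore_normal 2 (M ⧸ fittingTwo M)
  have h1 := CfsgLib.Solvable.le_pCore (N := (Cfsg.pCore 2 (M ⧸ fittingTwo M)).comap φ)
    (hn.comap φ) ((CfsgLib.Solvable.pCore_isPGroup 2).comap_of_ker_isPGroup φ hker)
  refine (Subgroup.eq_bot_iff_forall _).2 fun g hg => ?_
  obtain ⟨g, rfl⟩ := QuotientGroup.mk'_surjective (fittingTwo M) g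
  exact (QuotientGroup.eq_one_iff g).2 (show g ∈ fittingTwo M from
    h1 (show φ (QuotientGroup.mk' F g) ∈ Cfsg.pCore 2 (M ⧸ fittingTwo M) from hg))

variable {K : Type u} [Field K] [CharP K 2] [IsAlgClosed K] {V : Type v} [AddCommGroup V] [Module K V]
  [FiniteDimensional K V] {M : Type w} [Group M] [Finite M] {ρ : Representation K M V} {e : ℕ}
  [(Cfsg.fittingSubgroup M).Normal]

/-- Every element of the tops centralises the odd cores modulo the Fitting subgroup. -/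
theorem TopCtx.tops_commute_core (h : TopCtx ρ e) {q : ℕ} (hq : q.Prime) (hq2 : q ≠ 2) {u : M}
    (hu : u ∈ tops M e) : ∀ g ∈ Cfsg.pCore q (M ⧸ Cfsg.fittingSubgroup M),
      (u : M ⧸ Cfsg.fittingSubgroup M) * g = g * u := by
  set C := (centralizer (Cfsg.pCore q (M ⧸ Cfsg.fittingSubgroup M) : Set _)).comap
    (QuotientGroup.mk' (Cfsg.fittingSubgroup M))
  have hn := CfsgLib.Solvable.pCore_normal q (M ⧸ Cfsg.fittingSubgroup M)
  have hle : tops M e ≤ C := normalClosure_le_normal fun y ⟨x, hx, e'⟩ =>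
    mem_centralizer_iff.2 fun g hg => (e' ▸ h.commute_core_mod_fitting hq hq2 hx g hg).symm
  exact fun g hg => (mem_centralizer_iff.1 (hle hu) g hg).symm

set_option maxHeartbeats 1000000 in
/-- An element in `R` inverted by a top centralises a normalised Sylow subgroup of the tops. -/
theorem TopCtx.commute_of_inverted (h : TopCtx ρ e) {r : ℕ} (hr : r.Prime) (hr2 : r ≠ 2)
    {R T : Subgroup M} (hR : IsPGroup r R) (hT : IsPGroup 2 T) (hTt : T ≤ tops M e) {x : M}
    (hx : x ^ 2 ^ e = 1) (hxT : x ∈ normalizer (T : Set M)) {u : M} (huR : u ∈ R) (hut : u ∈ tops M e)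
    (huT : u ∈ normalizer (T : Set M)) (hinv : x ^ 2 ^ (e - 1) * u * (x ^ 2 ^ (e - 1))⁻¹ = u⁻¹) :
    ∀ t ∈ T, u * t = t * u := by
  classical
  have := h.solvable
  intro t ht
  have hcT : ⁅t, u⁆ ∈ T := commutator_mem_of_normalizer ht huT
  obtain ⟨k, hk⟩ := hT ⟨_, hcT⟩
  have hk' : ⁅t, u⁆ ^ 2 ^ k = 1 := congrArg Subtype.val hk
  refine (commutatorElement_eq_one_iff_mul_comm.1 (eq_one_of_mem_fitting h.core
    (centralizes_of_forall_pCore fun q hq g hg => ?_) hk')).symm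
  by_cases hq2 : q = 2
  · subst hq2
    rw [h.core, mem_bot] at hg
    rw [hg, one_mul, mul_one]
  have := Fact.mk hq
  refine h.centralizes_core hq hq2 (hTt hcT) ?_ (fun χ hw => ?_) g hg
  · exact (((Nat.coprime_primes Nat.prime_two hq).2 (Ne.symm hq2)).pow_left k).coprime_dvd_left
      (orderOf_dvd_of_pow_eq_one hk')
  set St := charStabilizer (centerIn (movedCore M e q)) χ
  have hTS := h.tops_le_stab hq hq2 χ
  set uS : St := ⟨u, hTS hut⟩
  set tS : St := ⟨t, hTS (hTt ht)⟩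
  set yS : St := ⟨_, hTS (top_mem_tops hx)⟩
  have hinvS : hw.act yS * hw.act uS * (hw.act yS)⁻¹ = (hw.act uS)⁻¹ := by
    rw [← map_inv, ← map_inv, ← map_mul, ← map_mul]
    exact congrArg hw.act (Subtype.ext hinv)
  have hodd : Odd (orderOf (hw.act uS)) :=
    Odd.of_dvd_nat (odd_orderOf_of_isPGroup hr hr2 hR huR)
      ((orderOf_map_dvd _ uS).trans (dvd_of_eq (Subgroup.orderOf_coe uS).symm))
  have hcomm : hw.act uS * hw.act tS = hw.act tS * hw.act uS := by
    by_cases hmov : hw.act yS = 1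
    · have : hw.act uS = 1 := eq_one_of_inverted hodd hinvS (by rw [hmov, one_mul, mul_one])
      rw [this, one_mul, mul_one]
    obtain ⟨j, n, hz, hplane, hinvol⟩ := h.exists_plane hq2 hw hx (hTS (top_mem_tops hx)) hmov
    set T' : Subgroup St := T.subgroupOf St
    have hTN : ∀ g : St, (g : M) ∈ normalizer (T : Set M) →
        hw.act g ∈ normalizer ((T'.map hw.act : Subgroup _) : Set (MulAut hw.Space)) := fun g hg =>
      le_normalizer_map hw.act ⟨g, mem_normalizer_of_conj_mem fun t ht =>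
        mem_subgroupOf.2 (conj_mem_of_mem_normalizer hg (mem_subgroupOf.1 ht)), rfl⟩
    refine hplane.commute_of_inverted (T := T'.map hw.act) ?_ ?_ (hTN _ (pow_mem hxT _))
      (hTN uS huT) hodd ?_ _ ⟨tS, ht, rfl⟩
    · exact ((hT.of_equiv (subgroupOfEquivOfLe (hTt.trans hTS)).symm)).map _
    · rintro _ ⟨g, -, rfl⟩
      exact hw.act_preserves g
    · rw [hinvol]; exact hinvS
  show hw.act ⟨⁅t, u⁆, _⟩ = 1
  rw [show (⟨⁅t, u⁆, hTS (hTt hcT)⟩ : St) = ⁅tS, uS⁆ from Subtype.ext rfl, map_commutatorElement,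
    commutatorElement_eq_one_iff_mul_comm]
  exact hcomm.symm

set_option maxHeartbeats 1000000 in
/-- Tops centralise the odd cores over the preimage of the `2`-core. -/
theorem TopCtx.commute_core_mod_fittingTwo (h : TopCtx ρ e) [(fittingTwo M).Normal] {r : ℕ}
    (hr : r.Prime) (hr2 : r ≠ 2) {x : M} (hx : x ^ 2 ^ e = 1) :
    ∀ g ∈ Cfsg.pCore r (M ⧸ fittingTwo M),
      (x ^ 2 ^ (e - 1) : M) * g = g * (x ^ 2 ^ (e - 1) : M) := by
  classical
  have := Fact.mk hr
  have := h.solvable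
  set F := Cfsg.fittingSubgroup M
  set T₀ := fittingTwo M with hT₀
  set f := QuotientGroup.mk' T₀
  set f₁ := QuotientGroup.mk' F
  have hT₀map : ∀ g ∈ T₀, f₁ g ∈ Cfsg.pCore 2 (M ⧸ F) := fun g hg => hg
  -- a Sylow subgroup of the tops inside `T₀`
  have := tops_normal (M := M) e
  obtain ⟨T, hT, hTle, hTcov, hTmap⟩ := exists_sylow_cover 2 (A := T₀ ⊓ tops M e) (L := ⊤)
  rw [inf_top_eq] at hTle
  rw [top_inf_eq] at hTcov
  have hTsur : ∀ g ∈ T₀ ⊓ tops M e, ∃ t ∈ T, f₁ t = f₁ g := fun g hg =>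
    hTmap f₁ ((CfsgLib.Solvable.pCore_isPGroup 2).to_le (by
      rintro _ ⟨t, ht, rfl⟩; exact hT₀map t ht.1.1)) ⟨g, ⟨hg, trivial⟩, rfl⟩
  set L := normalizer (T : Set M)
  have hLtop : L ⊔ T₀ = ⊤ := top_le_iff.1 (hTcov.trans (sup_le_sup le_rfl inf_le_left))
  set H := (Cfsg.pCore r (M ⧸ T₀)).comap f
  have hHn : H.Normal := (CfsgLib.Solvable.pCore_normal r _).comap _
  have hT₀H : T₀ ≤ H := fun g hg => by
    show f g ∈ Cfsg.pCore r (M ⧸ T₀)
    rw [QuotientGroup.mk'_apply, (QuotientGroup.eq_one_iff g).2 hg]; exact one_mem _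
  obtain ⟨R, hR, hRle, hRcov, hRmap⟩ := exists_sylow_cover r (A := H) (L := L)
  have hRsur : ∀ g ∈ Cfsg.pCore r (M ⧸ T₀), ∃ s ∈ R, (s : M ⧸ T₀) = g := by
    intro g hg
    obtain ⟨g, rfl⟩ := QuotientGroup.mk'_surjective T₀ g
    have h1 : g ∈ ((L ⊔ T₀ : Subgroup M) : Set M) := by rw [hLtop]; trivial
    rw [mul_normal] at h1
    obtain ⟨l, hl, t, ht, hlt⟩ := h1
    have hlg : f l = f g := by
      rw [← hlt, map_mul, show f t = 1 from (QuotientGroup.eq_one_iff t).2 ht, mul_one]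
    have hlH : l ∈ H := by
      show f l ∈ Cfsg.pCore r (M ⧸ T₀)
      rw [hlg]; exact hg
    obtain ⟨s, hs, e'⟩ := hRmap f ((CfsgLib.Solvable.pCore_isPGroup r).to_le (by
      rintro _ ⟨t, ht, rfl⟩; exact ht.1)) ⟨l, ⟨hlH, hl⟩, rfl⟩
    exact ⟨s, hs, e'.trans hlg⟩
  have htop : (L ⊓ normalizer (R : Set M)) ⊔ H = ⊤ :=
    top_le_iff.1 (hLtop.symm.le.trans (sup_le hRcov (hT₀H.trans le_sup_right)))
  obtain ⟨x', hx'N, hx', hxx'⟩ := exists_lift_two h.exp htop hx
  set y := x ^ 2 ^ (e - 1)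
  set y' := x' ^ 2 ^ (e - 1) with hy'
  have hy't : y' ∈ tops M e := top_mem_tops hx'
  have hy'N : y' ∈ L ⊓ normalizer (R : Set M) := pow_mem hx'N _
  have key : ∀ s ∈ R, (y' : M ⧸ T₀) * s = s * y' := by
    intro s hs
    set u := ⁅s, y'⁆ with hu
    have huR : u ∈ R := commutator_mem_of_normalizer hs hy'N.2
    have hut : u ∈ tops M e := commutator_mem_tops hy't s
    have hinv : y' * u * y'⁻¹ = u⁻¹ := inverted_commutator (h.top_sq hx')
    have hc := h.commute_of_inverted hr hr2 hR hT (hTle.trans inf_le_right) hx' hx'N.1 huR hut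
      (hRle huR).2 hinv
    have hodd : Odd (orderOf (f₁ u)) :=
      Odd.of_dvd_nat (odd_orderOf_of_isPGroup hr hr2 hR huR) (orderOf_map_dvd _ u)
    have hu2 : ∀ g ∈ Cfsg.pCore 2 (M ⧸ F), g * f₁ u = f₁ u * g := by
      intro g hg
      obtain ⟨g, rfl⟩ := QuotientGroup.mk'_surjective F g
      have hgT : g ∈ T₀ := hg
      have hw : ⁅g, u⁆ ∈ T₀ ⊓ tops M e :=
        ⟨commutator_mem_of_normalizer hgT (by rw [normalizer_eq_top]; trivial), commutator_mem_tops hut g⟩
      obtain ⟨t, ht, htw⟩ := hTsur _ hw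
      set w := f₁ ⁅g, u⁆ with hwdef
      have hwu : Commute w (f₁ u) := by
        rw [← htw]
        exact Commute.map (show Commute t u from (hc t ht).symm) f₁
      have hw' : f₁ g * f₁ u * (f₁ g)⁻¹ = w * f₁ u := by
        have e1 : ⁅g, u⁆ * u = g * u * g⁻¹ := by rw [commutatorElement_def, inv_mul_cancel_right]
        rw [hwdef, ← map_mul f₁ ⁅g, u⁆, e1, map_mul, map_mul, map_inv]
      have h1 : f₁ g * f₁ u ^ orderOf (f₁ u) * (f₁ g)⁻¹ = w ^ orderOf (f₁ u) * f₁ u ^ orderOf (f₁ u) := by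
        rw [← conj_pow, hw', hwu.mul_pow]
      rw [pow_orderOf_eq_one, mul_one, mul_inv_cancel, mul_one] at h1
      obtain ⟨k, hk⟩ := CfsgLib.Solvable.pCore_isPGroup (G := M ⧸ F) 2 ⟨w, hT₀map _ hw.1⟩
      have hw1 : w = 1 := orderOf_eq_one_iff.1 (Nat.eq_one_of_dvd_coprimes
        ((Nat.coprime_two_right.2 hodd).pow_right k) (orderOf_dvd_of_pow_eq_one h1.symm)
        (orderOf_dvd_of_pow_eq_one (congrArg Subtype.val hk : w ^ 2 ^ k = 1)))
      rw [hw1, one_mul] at hw'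
      exact mul_inv_eq_iff_eq_mul.1 hw'
    have huFit : f₁ u ∈ Cfsg.fittingSubgroup (M ⧸ F) := by
      refine centralizes_of_forall_pCore fun q hq g hg => ?_
      by_cases hq2 : q = 2
      · subst hq2; exact hu2 g hg
      · exact (h.tops_commute_core hq hq2 hut g hg).symm
    have hur : f₁ u ∈ Cfsg.pCore r (M ⧸ F) := by
      have := CfsgLib.Solvable.fittingSubgroup_normal (M ⧸ F)
      obtain ⟨k, hk⟩ := hR ⟨u, huR⟩
      obtain ⟨i, -, hi⟩ := (Nat.dvd_prime_pow hr).1 ((orderOf_map_dvd f₁ u).trans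
        (orderOf_dvd_of_pow_eq_one (congrArg Subtype.val hk : u ^ r ^ k = 1)))
      exact CfsgLib.OddLocal.mem_pCore_of_mem_nilpotent CfsgLib.Solvable.fittingSubgroup_isNilpotent
        huFit (IsPGroup.of_card (n := i) (by rw [Nat.card_zpowers, hi]))
    have hu1 : f₁ u = 1 := by
      refine eq_one_of_inverted hodd ?_ (h.tops_commute_core hr hr2 hy't _ hur)
      show f₁ y' * f₁ u * (f₁ y')⁻¹ = (f₁ u)⁻¹
      rw [← map_inv, ← map_inv, ← map_mul, ← map_mul, hinv]
    have huT : u ∈ T₀ := fitting_le_fittingTwo M ((QuotientGroup.eq_one_iff u).1 hu1)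
    have h1 : (u : M ⧸ T₀) = 1 := (QuotientGroup.eq_one_iff u).2 huT
    rw [hu] at h1
    exact (commutatorElement_eq_one_iff_mul_comm.1 ((map_commutatorElement f s y').symm.trans h1)).symm
  intro g hg
  have := CfsgLib.Solvable.pCore_normal r (M ⧸ T₀)
  refine TwoLength.commute_of_congr hr hr2 (CfsgLib.Solvable.pCore_isPGroup r) (y := (y : M ⧸ T₀))
    (y' := (y' : M ⧸ T₀)) (h := (y : M ⧸ T₀) * (y' : M ⧸ T₀)⁻¹) ?_
    (by rw [normalizer_eq_top]; trivial) ?_ (by rw [inv_mul_cancel_right]) ?_ g hg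
  · rw [pow_two, ← QuotientGroup.mk_mul, h.top_sq hx]; rfl
  · have h2 : ((y : M) : M ⧸ H) = (y' : M ⧸ H) := by
      rw [QuotientGroup.mk_pow, hxx', ← QuotientGroup.mk_pow]
    exact ((QuotientGroup.eq_one_iff (y * y'⁻¹)).1
      (by rw [QuotientGroup.mk_mul, h2, QuotientGroup.mk_inv, mul_inv_cancel]) : y * y'⁻¹ ∈ H)
  · intro g hg
    obtain ⟨s, hs, rfl⟩ := hRsur g hg
    exact key s hs

/-- Every top lies in the preimage of the `2`-core over the Fitting subgroup. -/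
theorem TopCtx.top_mem (h : TopCtx ρ e) [(fittingTwo M).Normal] {x : M} (hx : x ^ 2 ^ e = 1) :
    x ^ 2 ^ (e - 1) ∈ fittingTwo M := by
  have := h.solvable
  rw [← QuotientGroup.eq_one_iff]
  refine eq_one_of_mem_fitting (pCore_quotient_fittingTwo M)
    (centralizes_of_forall_pCore fun q hq g hg => ?_) (k := 1) ?_
  · by_cases hq2 : q = 2
    · subst hq2
      rw [pCore_quotient_fittingTwo M, mem_bot] at hg
      rw [hg, one_mul, mul_one]
    · exact (h.commute_core_mod_fittingTwo hq hq2 hx g hg).symm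
  · rw [pow_one, pow_two, ← QuotientGroup.mk_mul, h.top_sq hx]; rfl

end CfsgLib.TwoLength
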