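import Cfsg.Agent.Lib.TwoLength.WeightIsPlane
import Cfsg.Agent.Lib.HallHigman.Linear
import Cfsg.Agent.Lib.Solvable.Fitting
import Cfsg.Agent.Lib.StructC.PolySeq

/-!
# Top powers of `2`-elements of small degree and the weights of the odd cores
-/

set_option autoImplicit false

namespace CfsgLib.TwoLength

open Subgroup Module Polynomial CfsgLib.HallHigman CfsgLib.FixedFree
open scoped commutatorElement

universe u v w

variable {K : Type u} [Field K] [CharP K 2] [IsAlgClosed K] {V : Type v} [AddCommGroup V] [Module K V]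
  [FiniteDimensional K V] {M : Type w} [Group M] [Finite M]

/-- A solvable linear group with trivial `2`-core in which all `2`-elements have period `2 ^ e` and
degree below it. -/
structure TopCtx (ρ : Representation K M V) (e : ℕ) : Prop where
  solvable : Group.IsSolvable M
  core : Cfsg.pCore 2 M = ⊥
  inj : Function.Injective ρ
  one_le : 1 ≤ e
  exp : ∀ (x : M) (k : ℕ), x ^ 2 ^ k = 1 → x ^ 2 ^ e = 1
  deg_zero : ∀ x : M, x ^ 2 ^ e = 1 → (ρ x - 1) ^ (2 ^ e - 1) = 0

/-- The subgroup generated by the top powers of the `2`-elements. -/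
def tops (M : Type w) [Group M] (e : ℕ) : Subgroup M :=
  normalClosure {y | ∃ x : M, x ^ 2 ^ e = 1 ∧ y = x ^ 2 ^ (e - 1)}

/-- The part of the `q`-core moved by the tops. -/
def movedCore (M : Type w) [Group M] (e q : ℕ) : Subgroup M := ⁅Cfsg.pCore q M, tops M e⁆

omit [Finite M] in
theorem tops_normal (e : ℕ) : (tops M e).Normal := normalClosure_normal

omit [Finite M] in
theorem top_mem_tops {e : ℕ} {x : M} (hx : x ^ 2 ^ e = 1) : x ^ 2 ^ (e - 1) ∈ tops M e :=
  subset_normalClosure ⟨x, hx, rfl⟩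

theorem cast_ne_zero {q : ℕ} (hq : q.Prime) (hq2 : q ≠ 2) : (q : K) ≠ 0 := fun h =>
  hq2 ((Nat.prime_dvd_prime_iff_eq Nat.prime_two hq).1 ((CharP.cast_eq_zero_iff K 2 q).1 h)).symm

theorem cast_orderOf_ne_zero {q : ℕ} (hq : q.Prime) (hq2 : q ≠ 2) {P : Subgroup M} (hP : IsPGroup q P)
    {g : M} (hg : g ∈ P) : (orderOf g : K) ≠ 0 := by
  obtain ⟨k, hk⟩ := hP ⟨g, hg⟩
  obtain ⟨i, -, hi⟩ := (Nat.dvd_prime_pow hq).1
    (orderOf_dvd_of_pow_eq_one (congrArg Subtype.val hk : g ^ q ^ k = 1))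
  rw [hi, Nat.cast_pow]
  exact pow_ne_zero _ (cast_ne_zero hq hq2)

variable {ρ : Representation K M V} {e : ℕ}

namespace TopCtx

variable (h : TopCtx ρ e)
include h

theorem deg_lt {x : M} (hx : x ^ 2 ^ e = 1) : deg (ρ x) < 2 ^ e := by
  have := Nat.one_le_two_pow (n := e)
  refine lt_of_le_of_lt ((deg_le_of_aeval_eq_zero (g := (X - C (1 : K)) ^ (2 ^ e - 1))
    (pow_ne_zero _ (X_sub_C_ne_zero 1)) ?_).trans ?_) (Nat.sub_lt (by omega) Nat.one_pos)
  · rw [map_pow, map_sub, aeval_X, aeval_C, map_one]; exact h.deg_zero x hx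
  · rw [natDegree_pow, natDegree_X_sub_C, mul_one]

/-- A top centralises every abelian subgroup of odd prime power order normalised by its element. -/
theorem top_commute {q : ℕ} (hq : q.Prime) (hq2 : q ≠ 2) {A : Subgroup M} (hA : IsPGroup q A)
    (hAc : ∀ a ∈ A, ∀ b ∈ A, a * b = b * a) {x : M} (hx : x ^ 2 ^ e = 1)
    (hxA : x ∈ normalizer (A : Set M)) {a : M} (ha : a ∈ A) :
    x ^ 2 ^ (e - 1) * a = a * x ^ 2 ^ (e - 1) := by
  by_contra hne
  rcases boundHolds Nat.prime_two hq hq2.symm (cast_ne_zero hq hq2) _ ρ rfl A x e hA hxA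
    (by rw [hx, map_one]) h.one_le ⟨a, ha, fun e' => hne (h.inj e')⟩ with
    h1 | ⟨_, _, -, -, -, -, -, a₁, ha₁, b₁, hb₁, hne'⟩
  · exact absurd h1 (not_le.2 (h.deg_lt hx))
  · exact hne' (congrArg ρ (hAc a₁ ha₁ b₁ hb₁))

/-- The tops centralise every normal abelian subgroup of odd prime power order. -/
theorem tops_le_centralizer {q : ℕ} (hq : q.Prime) (hq2 : q ≠ 2) {A : Subgroup M} [A.Normal]
    (hA : IsPGroup q A) (hAc : ∀ a ∈ A, ∀ b ∈ A, a * b = b * a) :
    tops M e ≤ centralizer (A : Set M) := by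
  refine normalClosure_le_normal ?_
  rintro _ ⟨x, hx, rfl⟩
  exact mem_centralizer_iff.2 fun a ha =>
    (h.top_commute hq hq2 hA hAc hx (by rw [normalizer_eq_top]; exact mem_top x) ha).symm

omit [CharP K 2] [IsAlgClosed K] [FiniteDimensional K V] h in
theorem movedCore_normal (q : ℕ) : (movedCore M e q).Normal := by
  have := CfsgLib.Solvable.pCore_normal q M
  have := tops_normal (M := M) e
  rw [movedCore]
  infer_instance

omit [CharP K 2] [IsAlgClosed K] [FiniteDimensional K V] [Finite M] h in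
theorem movedCore_le (q : ℕ) : movedCore M e q ≤ Cfsg.pCore q M := by
  have := CfsgLib.Solvable.pCore_normal q M
  exact commutator_le_left _ _

omit [CharP K 2] [IsAlgClosed K] [FiniteDimensional K V] h in
theorem movedCore_isPGroup (q : ℕ) : IsPGroup q (movedCore M e q) :=
  (CfsgLib.Solvable.pCore_isPGroup q).to_le (movedCore_le q)

/-- The moved core centralises every normal abelian subgroup of the core. -/
theorem movedCore_le_centralizer {q : ℕ} (hq : q.Prime) (hq2 : q ≠ 2) {A : Subgroup M} [A.Normal]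
    (hA : IsPGroup q A) (hAc : ∀ a ∈ A, ∀ b ∈ A, a * b = b * a) :
    movedCore M e q ≤ centralizer (A : Set M) := by
  refine commutator_le.2 fun g _ y hy => mem_centralizer_iff.2 fun a ha => ?_
  have hy' := mem_centralizer_iff.1 (h.tops_le_centralizer hq hq2 hA hAc hy)
  have hb : g⁻¹ * a * g ∈ A := by
    have := (inferInstance : A.Normal).conj_mem a ha g⁻¹
    rwa [inv_inv] at this
  have e1 : y * a * y⁻¹ = a := by rw [← hy' a ha, mul_inv_cancel_right]
  have e2 : y⁻¹ * a * y = a := by rw [mul_assoc, hy' a ha, inv_mul_cancel_left]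
  have e3 : y * (g⁻¹ * a * g) * y⁻¹ = g⁻¹ * a * g := by rw [← hy' _ hb, mul_inv_cancel_right]
  have key : ⁅g, y⁆ * a * ⁅g, y⁆⁻¹ = a := by
    rw [commutatorElement_def]
    calc g * y * g⁻¹ * y⁻¹ * a * (g * y * g⁻¹ * y⁻¹)⁻¹
        = g * (y * (g⁻¹ * (y⁻¹ * a * y) * g) * y⁻¹) * g⁻¹ := by group
      _ = a := by rw [e2, e3]; group
  exact (mul_inv_eq_iff_eq_mul.1 key).symm

theorem movedCore_comm {q : ℕ} (hq : q.Prime) (hq2 : q ≠ 2) :
    ∀ a ∈ movedCore M e q, ∀ b ∈ movedCore M e q, ⁅a, b⁆ ∈ centerIn (movedCore M e q) := by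
  classical
  have := Fact.mk hq
  set D := movedCore M e q
  have hDn : D.Normal := movedCore_normal q
  have hnil : Group.IsNilpotent D := (movedCore_isPGroup (e := e) q).isNilpotent
  -- the lower central series inside `M`
  set L : ℕ → Subgroup M := fun j => D.lowerCentralSeries j with hL
  have hLle : ∀ j, L j ≤ D := fun j => D.lowerCentralSeries_antitone (Nat.zero_le j)
  have hL0 : L 0 = D := rfl
  have hLs : ∀ j, L (j + 1) = ⁅L j, D⁆ := fun j => rfl
  have hLn : ∀ j, (L j).Normal := by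
    intro j
    induction j with
    | zero => rw [hL0]; exact hDn
    | succ j ih => rw [hLs]; infer_instance
  have hmono : ∀ i j, i ≤ j → L j ≤ L i := fun i j hij => D.lowerCentralSeries_antitone hij
  -- abelian terms are central in `D`
  have hab : ∀ j, ⁅L j, L j⁆ = ⊥ → L (j + 1) = ⊥ := by
    intro j hj
    have := hLn j
    have hc := h.movedCore_le_centralizer hq hq2 (A := L j) ((movedCore_isPGroup q).to_le (hLle j))
      fun a ha b hb => commutatorElement_eq_one_iff_mul_comm.1 (mem_bot.1 (hj ▸ commutator_mem_commutator ha hb))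
    rw [hLs, eq_bot_iff]
    exact commutator_le.2 fun a ha b hb => mem_bot.2
      (commutatorElement_eq_one_iff_mul_comm.2 (mem_centralizer_iff.1 (hc hb) a ha))
  have hex : ∃ c, L c = ⊥ := by
    exact D.isNilpotent_iff_lowerCentralSeries.1 hnil
  have h2 : L 2 = ⊥ := by
    by_contra h2
    set c := Nat.find hex with hc
    have hc3 : 3 ≤ c := by
      by_contra hlt
      exact h2 (eq_bot_iff.2 ((hmono c 2 (by omega)).trans (Nat.find_spec hex).le))
    refine Nat.find_min hex (show c - 1 < c by omega) ?_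
    obtain ⟨d, hd⟩ : ∃ d, c - 2 = d := ⟨_, rfl⟩
    rw [show c - 1 = d + 1 by omega]
    refine hab d (eq_bot_iff.2 ?_)
    calc ⁅L d, L d⁆ ≤ L (2 * d + 1) := by
          simp only [hL, ← Subgroup.top_subtype_lowerCentralSeries D, ← Subgroup.map_commutator]
          refine map_mono ?_
          have := StructC.commutator_lowerCentralSeries_le (G := D) d d
          rwa [two_mul]
      _ ≤ L c := hmono _ _ (by omega)
      _ = ⊥ := Nat.find_spec hex
  intro a ha b hb
  refine mem_centerIn.2 ⟨mul_mem (mul_mem (mul_mem ha hb) (inv_mem ha)) (inv_mem hb), fun d hd => ?_⟩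
  refine (commutatorElement_eq_one_iff_mul_comm.1 (mem_bot.1 (h2 ▸ ?_ : ⁅⁅a, b⁆, d⁆ ∈ (⊥ : Subgroup M)))).symm
  rw [hLs 1, hLs 0, hL0]
  exact commutator_mem_commutator (commutator_mem_commutator ha hb) hd

end TopCtx

end CfsgLib.TwoLength
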