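import Cfsg.Agent.Lib.TwoLength.WeightPlane
import Cfsg.Agent.Lib.FixedSpace.Factors

/-!
# An element of degree below its order acts as a plane element
-/

set_option autoImplicit false

namespace CfsgLib.TwoLength

open Subgroup Module Polynomial CfsgLib.HallHigman CfsgLib.FixedFree CfsgLib.FixedSpace
open scoped commutatorElement

universe u v w

variable {K : Type u} [Field K] {V : Type v} [AddCommGroup V] [Module K V] {X : Type w} [Group X]
  {ρ : Representation K X V} {D : Subgroup X} {q : ℕ} {χ : X → K}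

/-- The representation of the stabiliser of a weight on the weight space. -/
def weightRep (ρ : Representation K X V) (Z : Subgroup X) (χ : X → K) :
    Representation K (charStabilizer Z χ) (charSpace ρ Z χ) :=
  subRep (ρ.comp (charStabilizer Z χ).subtype) (charSpace ρ Z χ) fun t _ hw => charSpace_map_mem t.2 hw

theorem weightRep_apply (Z : Subgroup X) (t : charStabilizer Z χ) (v : charSpace ρ Z χ) :
    ((weightRep ρ Z χ t v : charSpace ρ Z χ) : V) = ρ (t : X) (v : V) := rfl

theorem WeightCtx.le_stab [Finite X] (h : WeightCtx ρ D q χ) : D ≤ charStabilizer (centerIn D) χ := by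
  intro d hd
  have := h.normal
  refine ⟨mem_normalizer_of_conj_mem fun z hz => ?_, fun z hz => ?_⟩
  · rw [((mem_centerIn.1 hz).2 d hd).eq, mul_inv_cancel_right]
    exact hz
  · rw [mul_assoc, ← h.commute_center hz hd, inv_mul_cancel_left]

theorem WeightCtx.nontrivial_charSpace (h : WeightCtx ρ D q χ) :
    Nontrivial (charSpace ρ (centerIn D) χ) := by
  obtain ⟨v, hv, hvZ⟩ := h.exists_vec
  exact nontrivial_of_ne ⟨v, hvZ⟩ 0 fun e => hv (congrArg Subtype.val e)

theorem WeightCtx.weightRep_center (h : WeightCtx ρ D q χ) (t : charStabilizer (centerIn D) χ)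
    (ht : (t : X) ∈ centerIn D) :
    weightRep ρ (centerIn D) χ t = χ t • (1 : Module.End K (charSpace ρ (centerIn D) χ)) :=
  LinearMap.ext fun w => Subtype.ext (w.2 _ ht)

variable [CharP K 2] [IsAlgClosed K] [Finite X] [FiniteDimensional K V] [hq : Fact q.Prime]

set_option maxHeartbeats 1000000 in
/-- An element of degree below its order whose involution moves the space gives a plane element. -/
theorem WeightCtx.isPlane (h : WeightCtx ρ D q χ) (hq2 : q ≠ 2) {n : ℕ} (hn : 1 ≤ n)
    {g : charStabilizer (centerIn D) χ} (hgn : g ^ 2 ^ n = 1)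
    (hdeg : deg (weightRep ρ (centerIn D) χ g) < 2 ^ n) (hmov : h.act (g ^ 2 ^ (n - 1)) ≠ 1) :
    IsPlane h.pairing n q (h.act g) := by
  classical
  have := h.normal
  have := h.nontrivial_charSpace
  set σ := weightRep ρ (centerIn D) χ with hσdef
  set gy := g ^ 2 ^ (n - 1) with hgy
  have hgy2 : gy ^ 2 = 1 := by rw [hgy, ← pow_mul, ← pow_succ, Nat.sub_add_cancel hn, hgn]
  have hJle : h.inverted (gy : X) ≤ charStabilizer (centerIn D) χ := (h.inverted_le _).trans h.le_stab
  obtain ⟨hqn, -, hcard⟩ := h.deg_and_card hn hq2 hgn hJle g.2 σ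
    (fun z hz => h.weightRep_center _ hz) hdeg hmov
  have hn2 : 2 ≤ n := by
    by_contra hn2
    obtain rfl : n = 1 := by omega
    have := hq.out.two_le
    omega
  have hodd := fun s => odd_orderOf hq2 h.space_pow s
  refine ⟨hn2, hqn, h.space_pow, h.act_preserves g, by rw [← map_pow, hgn, map_one],
    by rw [← map_pow]; exact hcard, ?_⟩
  intro s hs
  rw [← map_pow, ← hgy] at hs
  obtain ⟨d, rfl⟩ := h.proj_surjective s
  rw [mem_fixedSub]
  by_contra hne
  set T := σ g
  set T' := σ g⁻¹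
  have hTT : T * T' = 1 := by rw [← map_mul, mul_inv_cancel, map_one]
  have hT'T : T' * T = 1 := by rw [← map_mul, inv_mul_cancel, map_one]
  set U := σ ⟨d, h.le_stab d.2⟩ with hU
  have hTn : T ^ 2 ^ n = 1 := by rw [← map_pow, hgn, map_one]
  -- the commutant of the inverted part
  let Cm : Set (Module.End K (charSpace ρ (centerIn D) χ)) :=
    {c | ∀ j : charStabilizer (centerIn D) χ, (j : X) ∈ h.inverted (gy : X) → c * σ j = σ j * c}
  have hbeta : ∀ a b : D, σ ⁅(⟨a, h.le_stab a.2⟩ : charStabilizer (centerIn D) χ), ⟨b, h.le_stab b.2⟩⁆ =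
      (h.beta a b : K) • (1 : Module.End K _) := fun a b => h.weightRep_center _ (h.comm _ a.2 _ b.2)
  have hUC : U ∈ Cm := by
    intro j hj
    have h1 : h.pairing.toFun (h.proj d) (h.proj ⟨j, h.inverted_le _ hj⟩) = 1 :=
      pairing_fixed_disp (h.act_preserves gy) hs (h.proj_inverted hgy2 hq2 hj)
    rw [h.pairing_proj] at h1
    have h2 := hbeta d ⟨j, h.inverted_le _ hj⟩
    rw [h1, Units.val_one, one_smul] at h2
    rw [hU, ← map_mul, show (⟨d, h.le_stab d.2⟩ : charStabilizer (centerIn D) χ) * j =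
      ⁅(⟨d, h.le_stab d.2⟩ : charStabilizer (centerIn D) χ), j⁆ * (j * ⟨d, h.le_stab d.2⟩) by
        rw [commutatorElement_def]; group, map_mul, map_mul]
    have h2' : σ ⁅(⟨d, h.le_stab d.2⟩ : charStabilizer (centerIn D) χ), j⁆ = 1 := h2
    rw [h2', one_mul]
  have hgyc : (g : X) * gy = gy * g := by
    rw [hgy, SubgroupClass.coe_pow]; exact (Commute.self_pow _ _).eq
  have hconjC : ∀ c ∈ Cm, T * c * T' ∈ Cm := by
    intro c hc j hj
    have hj' : ((g⁻¹ * j * g : charStabilizer (centerIn D) χ) : X) ∈ h.inverted (gy : X) :=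
      inv_conj_mem_of_mem_normalizer (h.mem_normalizer_inverted hgyc) hj
    have e := hc _ hj'
    rw [map_mul, map_mul] at e
    have e1 : T' * σ j = T' * σ j * T * T' := by rw [mul_assoc _ T T', hTT, mul_one]
    have e2 : T * (T' * σ j * T * c) = σ j * T * c := by
      simp only [← mul_assoc, hTT, one_mul]
    calc T * c * T' * σ j = T * (c * (T' * σ j * T)) * T' := by
          simp only [mul_assoc, hTT, mul_one]
      _ = T * (T' * σ j * T * c) * T' := by rw [e]
      _ = σ j * (T * c * T') := by rw [e2]; simp only [mul_assoc]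
  let δ : Module.End K (Module.End K (charSpace ρ (centerIn D) χ)) :=
    LinearMap.mulLeftRight K (T, T') - 1
  have hδ : ∀ c, δ c = T * c * T' - c := fun c => rfl
  have hδC : ∀ c ∈ Cm, δ c ∈ Cm := fun c hc j hj => by
    rw [hδ, sub_mul, mul_sub, hconjC c hc j hj, hc j hj]
  have hnil : δ ^ 2 ^ n = 0 := by
    have hL : ∀ (i : ℕ) c, (LinearMap.mulLeftRight K (T, T') ^ i) c = T ^ i * c * T' ^ i := by
      intro i c
      induction i with
      | zero => simp
      | succ i ih =>
        rw [pow_succ' (LinearMap.mulLeftRight K (T, T')), Module.End.mul_apply, ih,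
          LinearMap.mulLeftRight_apply, pow_succ' T, pow_succ T']
        simp only [mul_assoc]
    have hL1 : LinearMap.mulLeftRight K (T, T') ^ 2 ^ n = 1 := LinearMap.ext fun c => by
      rw [hL, hTn, ← map_pow, inv_pow, hgn, inv_one, map_one, one_mul, mul_one]; rfl
    have : Nontrivial (Module.End K (charSpace ρ (centerIn D) χ)) :=
      nontrivial_of_ne 1 0 one_ne_zero
    have : CharP (Module.End K (Module.End K (charSpace ρ (centerIn D) χ))) 2 :=
      charP_of_injective_algebraMap (algebraMap K _).injective 2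
    let L : Module.End K (Module.End K (charSpace ρ (centerIn D) χ)) := LinearMap.mulLeftRight K (T, T')
    have h2 := sub_pow_char_pow_of_commute (R := Module.End K (Module.End K (charSpace ρ (centerIn D) χ)))
      2 n (Commute.one_right L)
    rw [one_pow, show L ^ 2 ^ n = 1 from hL1, sub_self] at h2
    exact h2
  have hUne : δ U ≠ 0 := by
    intro e
    rw [hδ, sub_eq_zero] at e
    refine hne ?_
    rw [h.act_proj, h.proj_eq, h.mem_orth]
    intro b
    refine Units.ext (smul_left_injective K (one_ne_zero : (1 : Module.End K (charSpace ρ (centerIn D) χ)) ≠ 0)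
      (?_ : (_ : K) • (1 : Module.End K (charSpace ρ (centerIn D) χ)) = (1 : K) • 1))
    have he : σ ⟨_, h.le_stab ((h.conjD g d)⁻¹ * d).2⟩ = 1 := by
      have e3 : (⟨_, h.le_stab ((h.conjD g d)⁻¹ * d).2⟩ : charStabilizer (centerIn D) χ) =
          g * ⟨d, h.le_stab d.2⟩⁻¹ * g⁻¹ * ⟨d, h.le_stab d.2⟩ := Subtype.ext (by
        push_cast; rw [h.conjD_apply]; group)
      rw [e3, map_mul, map_mul, map_mul, ← hU]
      have hUU : σ ⟨d, h.le_stab d.2⟩⁻¹ * U = 1 := by rw [hU, ← map_mul, inv_mul_cancel, map_one]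
      calc T * σ ⟨d, h.le_stab d.2⟩⁻¹ * T' * U
          = T * σ ⟨d, h.le_stab d.2⟩⁻¹ * T' * (T * U * T') := by rw [e]
        _ = 1 := by
          simp only [mul_assoc]
          rw [← mul_assoc T' T, hT'T, one_mul, ← mul_assoc (σ _) U, hUU, one_mul, hTT]
    have he' : σ ⟨_, h.le_stab ((h.conjD g d)⁻¹ * d).2⟩⁻¹ = 1 := by
      have h1 := map_one σ
      rw [← mul_inv_cancel ⟨_, h.le_stab ((h.conjD g d)⁻¹ * d).2⟩, map_mul, he, one_mul] at h1
      exact h1
    rw [← hbeta, one_smul, commutatorElement_def, map_mul, map_mul, map_mul, he, he', one_mul, mul_one,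
      ← map_mul, mul_inv_cancel, map_one]
  have hex : ∃ k, (δ ^ k) (δ U) = 0 := ⟨2 ^ n, by rw [hnil]; rfl⟩
  obtain ⟨m, hm⟩ : ∃ m, Nat.find hex = m + 1 := Nat.exists_eq_succ_of_ne_zero fun e => by
    have := Nat.find_spec hex
    rw [e] at this
    exact hUne this
  set c := (δ ^ m) U with hc
  have hcC : ∀ k, (δ ^ k) U ∈ Cm := fun k => by
    induction k with
    | zero => exact hUC
    | succ k ih => rw [pow_succ', Module.End.mul_apply]; exact hδC _ ih
  set c' := δ c with hc'
  have hc'eq : c' = (δ ^ m) (δ U) := by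
    rw [hc', hc, ← Module.End.mul_apply, ← Module.End.mul_apply, ← pow_succ, ← pow_succ']
  have hc'ne : c' ≠ 0 := by
    rw [hc'eq]; exact Nat.find_min hex (by omega)
  have hc'T : T * c' = c' * T := by
    have h1 : δ c' = 0 := by
      rw [hc'eq, ← Module.End.mul_apply, ← pow_succ', ← hm]; exact Nat.find_spec hex
    rw [hδ, sub_eq_zero] at h1
    calc T * c' = T * c' * (T' * T) := by rw [hT'T, mul_one]
      _ = T * c' * T' * T := by simp only [mul_assoc]
      _ = c' * T := by rw [h1]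
  have hc'C : c' ∈ Cm := hδC _ (hcC m)
  set N := T - 1
  have hNc : N * c' = c' * N := by rw [sub_mul, mul_sub, hc'T, one_mul, mul_one]
  have hstep : N * c - c * N = c' * T := by
    rw [hc', hδ, sub_mul, sub_mul, mul_sub, mul_assoc (T * c), hT'T, mul_one, one_mul, mul_one]
    abel
  have hpow : ∀ k : ℕ, N ^ (k + 1) * c - c * N ^ (k + 1) = (k + 1) • (c' * T * N ^ k) := by
    intro k
    induction k with
    | zero => simp [hstep]
    | succ k ih =>
      have hNT : N * T = T * N := by rw [sub_mul, mul_sub, one_mul, mul_one]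
      have : N ^ (k + 1 + 1) * c - c * N ^ (k + 1 + 1) =
          N * (N ^ (k + 1) * c - c * N ^ (k + 1)) + (N * c - c * N) * N ^ (k + 1) := by
        rw [pow_succ' N (k + 1)]; simp only [mul_sub, sub_mul, mul_assoc]; abel
      rw [this, ih, hstep, mul_smul_comm, succ_nsmul _ (k + 1)]
      congr 2
      rw [← mul_assoc, ← mul_assoc N c', hNc, mul_assoc c' N T, hNT, pow_succ' N k]
      simp only [mul_assoc]
  have hNq : N ^ q = 0 := by
    rw [show q = 2 ^ n - 1 by omega]
    exact sub_one_pow_eq_zero_of_deg hTn hdeg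
  obtain ⟨r, hr⟩ : ∃ r, q = r + 1 := ⟨q - 1, by have := hq.out.two_le; omega⟩
  have hrodd : Even r := by
    have := hq.out.odd_of_ne_two hq2
    rw [hr, Nat.odd_add_one, Nat.not_odd_iff_even] at this
    exact this
  have hkill : c' * N ^ r = 0 := by
    have h1 := hpow r
    rw [← hr, hNq, zero_mul, mul_zero, sub_zero] at h1
    rw [← Nat.cast_smul_eq_nsmul K, hr, (?_ : ((r + 1 : ℕ) : K) = 1), one_smul] at h1
    · have hTN : T * N ^ r = N ^ r * T := ((Commute.sub_right (Commute.refl T) (Commute.one_right T)).pow_right r).eq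
      calc c' * N ^ r = c' * (N ^ r * (T * T')) := by rw [hTT, mul_one]
        _ = c' * T * N ^ r * T' := by rw [mul_assoc c' T, hTN]; simp only [mul_assoc]
        _ = 0 := by rw [← h1, zero_mul]
    · obtain ⟨i, rfl⟩ := hrodd
      push_cast
      rw [CharTwo.add_self_eq_zero, zero_add]
  -- the image of `c'` is a smaller representation
  let H1 : Subgroup X :=
    { carrier := {t | ∃ ht : t ∈ charStabilizer (centerIn D) χ, σ ⟨t, ht⟩ * c' = c' * σ ⟨t, ht⟩}
      one_mem' := ⟨one_mem _, by rw [show (⟨1, one_mem _⟩ : charStabilizer (centerIn D) χ) = 1 from rfl, map_one, one_mul, mul_one]⟩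
      mul_mem' := fun {a b} ⟨ha, ea⟩ ⟨hb, eb⟩ => ⟨mul_mem ha hb, by
        rw [show (⟨a * b, mul_mem ha hb⟩ : charStabilizer (centerIn D) χ) = ⟨a, ha⟩ * ⟨b, hb⟩ from rfl, map_mul,
          mul_assoc, eb, ← mul_assoc, ea, mul_assoc]⟩
      inv_mem' := fun {a} ⟨ha, ea⟩ => ⟨inv_mem ha, by
        rw [show (⟨a⁻¹, inv_mem ha⟩ : charStabilizer (centerIn D) χ) = ⟨a, ha⟩⁻¹ from rfl]
        have h1 : σ ⟨a, ha⟩⁻¹ * σ ⟨a, ha⟩ = 1 := by rw [← map_mul, inv_mul_cancel, map_one]
        have h2 : σ ⟨a, ha⟩ * σ ⟨a, ha⟩⁻¹ = 1 := by rw [← map_mul, mul_inv_cancel, map_one]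
        calc σ ⟨a, ha⟩⁻¹ * c' = σ ⟨a, ha⟩⁻¹ * (c' * σ ⟨a, ha⟩) * σ ⟨a, ha⟩⁻¹ := by
              rw [mul_assoc, mul_assoc, h2, mul_one]
          _ = c' * σ ⟨a, ha⟩⁻¹ := by rw [← ea, ← mul_assoc _ (σ ⟨a, ha⟩), h1, one_mul]⟩ }
  have hH1 : H1 ≤ charStabilizer (centerIn D) χ := fun t ⟨ht, _⟩ => ht
  have hgH1 : (g : X) ∈ H1 := ⟨g.2, hc'T⟩
  have hJH1 : h.inverted (gy : X) ≤ H1 := fun j hj => ⟨hJle hj, (hc'C ⟨j, hJle hj⟩ hj).symm⟩
  set W1 := LinearMap.range c'
  have hW1 : ∀ (t : H1), ∀ w ∈ W1, σ (inclusion hH1 t) w ∈ W1 := by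
    rintro ⟨t, ht, et⟩ _ ⟨v, rfl⟩
    refine ⟨σ ⟨t, ht⟩ v, ?_⟩
    rw [← Module.End.mul_apply, ← et]; rfl
  have : Nontrivial W1 := Submodule.nontrivial_iff_ne_bot.2 fun e => hc'ne (LinearMap.range_eq_bot.1 e)
  let σ1 : Representation K H1 W1 := subRep (σ.comp (inclusion hH1)) W1 hW1
  have hNr : (σ1 ⟨g, hgH1⟩ - 1) ^ r = 0 := by
    have key : ∀ (k : ℕ) (w : W1), (((σ1 ⟨g, hgH1⟩ - 1) ^ k) w : charSpace ρ (centerIn D) χ) = (N ^ k) w := by
      intro k w
      induction k with
      | zero => rfl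
      | succ k ih => rw [pow_succ' N, pow_succ', Module.End.mul_apply, Module.End.mul_apply, ← ih]; rfl
    refine LinearMap.ext ?_
    rintro ⟨_, v, rfl⟩
    refine Subtype.ext ((key r _).trans ?_)
    show (N ^ r) (c' v) = ((0 : W1) : charSpace ρ (centerIn D) χ)
    rw [← Module.End.mul_apply, ((Commute.pow_left hNc r).eq : N ^ r * c' = c' * N ^ r), hkill]
    rfl
  have hdeg1 : deg (σ1 ⟨g, hgH1⟩) ≤ r := by
    refine (deg_le_of_aeval_eq_zero (g := (Polynomial.X - C (1 : K)) ^ r) (pow_ne_zero _ (X_sub_C_ne_zero 1)) ?_).trans ?_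
    · rw [map_pow, map_sub, aeval_X, aeval_C, map_one]; exact hNr
    · rw [natDegree_pow, natDegree_X_sub_C, mul_one]
  have := (h.deg_and_card hn hq2 hgn hJH1 hgH1 σ1 (fun z hz => LinearMap.ext fun w => Subtype.ext
    (congrArg (fun f : Module.End K _ => f (w : charSpace ρ (centerIn D) χ))
      (h.weightRep_center ⟨z, h.le_stab (centerIn_le D hz)⟩ hz))) (by omega) hmov).2.1
  omega

end CfsgLib.TwoLength
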