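import Cfsg.Agent.Lib.TwoLength.ClassTwoWeight
import Mathlib.Algebra.CharP.Lemmas
import Mathlib.Algebra.CharP.Two

/-!
# An element of degree below its order gives a plane element

In characteristic two, if `g` of period `2 ^ n` has degree less than `2 ^ n` on a weight space and
its involution moves the symplectic space then it acts there as a plane element.
-/

set_option autoImplicit false

namespace CfsgLib.TwoLength

open Subgroup Module Polynomial CfsgLib.HallHigman CfsgLib.FixedFree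
open scoped commutatorElement

universe u v w

theorem eq_one_of_pow_add_one {q b n : ℕ} (hq : q.Prime) (hq2 : q ≠ 2) (hn : 2 ≤ n)
    (h : q ^ b + 1 = 2 ^ n) : b = 1 := by
  obtain ⟨k, rfl⟩ := hq.odd_of_ne_two hq2
  rcases Nat.even_or_odd b with ⟨c, rfl⟩ | hb
  · exfalso
    obtain ⟨m, rfl⟩ : ∃ m, n = m + 2 := ⟨n - 2, by omega⟩
    have h1 : Odd ((2 * k + 1) ^ c) := (odd_two_mul_add_one k).pow
    obtain ⟨l, hl⟩ := h1
    rw [pow_add, hl, pow_add] at h
    have : (2 * l + 1) * (2 * l + 1) = 4 * (l * l + l) + 1 := by ring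
    omega
  · obtain ⟨m, rfl⟩ := hb
    by_contra hne
    set q := 2 * k + 1
    have hdvd : q + 1 ∣ q ^ (2 * m + 1) + 1 := by
      simpa using (odd_two_mul_add_one m).nat_add_dvd_pow_add_pow q 1
    rw [h] at hdvd
    obtain ⟨j, hj, hqj⟩ := (Nat.dvd_prime_pow Nat.prime_two).1 hdvd
    -- the cofactor is odd
    obtain ⟨d, hd⟩ : q + 1 ∣ q ^ (2 * m + 1) + 1 := by rw [h, hqj]; exact pow_dvd_pow 2 hj
    have hd2 : d = 2 ^ (n - j) := by
      rw [h, hqj, show n = j + (n - j) by omega, pow_add] at hd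
      exact (Nat.eq_of_mul_eq_mul_left (pow_pos two_pos j) hd).symm
    have hdodd : Odd d := by
      have key : ∀ m : ℕ, ∃ d, Odd d ∧ q ^ (2 * m + 1) + 1 = (q + 1) * d := by
        intro m
        induction m with
        | zero => exact ⟨1, odd_one, by ring⟩
        | succ m ih =>
          obtain ⟨d, hd, e⟩ := ih
          obtain ⟨q', hq'⟩ : ∃ q', q = q' + 1 := ⟨2 * k, rfl⟩
          have hd1 : q' ≤ q ^ 2 * d := by
            have : 1 ≤ d := hd.pos
            nlinarith
          refine ⟨q ^ 2 * d - q', ?_, ?_⟩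
          · refine Nat.Odd.sub_even hd1 (((odd_two_mul_add_one k).pow).mul hd) ⟨k, by omega⟩
          · rw [show 2 * (m + 1) + 1 = (2 * m + 1) + 2 by ring, pow_add, Nat.mul_sub,
              show (q + 1) * (q ^ 2 * d) = q ^ 2 * (q ^ (2 * m + 1) + 1) by rw [e]; ring]
            have : (q + 1) * q' + 1 = q ^ 2 := by rw [hq']; ring
            symm
            apply Nat.sub_eq_of_eq_add
            calc q ^ 2 * (q ^ (2 * m + 1) + 1) = q ^ (2 * m + 1) * q ^ 2 + q ^ 2 := by ring
              _ = _ := by omega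
      obtain ⟨d', hd', e⟩ := key m
      rw [e] at hd
      exact (Nat.eq_of_mul_eq_mul_left (by omega) hd) ▸ hd'
    rcases Nat.eq_zero_or_pos (n - j) with h0 | h0
    · rw [h0, pow_zero] at hd2
      subst hd2
      rw [mul_one, Nat.add_right_cancel_iff] at hd
      have := Nat.pow_lt_pow_right hq.one_lt (show 1 < 2 * m + 1 by omega)
      rw [pow_one] at this
      omega
    · exact (Nat.not_even_iff_odd.2 hdodd) (hd2 ▸ (Nat.even_pow.2 ⟨even_two, by omega⟩))

variable {K : Type u} [Field K]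

/-- In characteristic two a small degree makes a power of `T - 1` vanish. -/
theorem sub_one_pow_eq_zero_of_deg [CharP K 2] {W : Type v} [AddCommGroup W] [Module K W] [FiniteDimensional K W]
    {T : Module.End K W} {n : ℕ} (hT : T ^ 2 ^ n = 1) (hdeg : deg T < 2 ^ n) :
    (T - 1) ^ (2 ^ n - 1) = 0 := by
  have h1 : minpoly K T ∣ (X - C 1) ^ 2 ^ n := minpoly.dvd K T (by
    rw [sub_pow_char_pow, ← map_pow, one_pow, map_one, map_sub, map_pow, aeval_X, map_one, hT, sub_self])
  obtain ⟨i, -, hi⟩ := (dvd_prime_pow (prime_X_sub_C (1 : K)) _).1 h1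
  have hi' : i < 2 ^ n := by
    have := degree_eq_degree_of_associated hi
    rw [degree_pow, degree_X_sub_C, nsmul_one, degree_eq_natDegree (minpoly.ne_zero
      (Algebra.IsIntegral.isIntegral T))] at this
    have h3 : deg T = i := by exact_mod_cast this
    omega
  obtain ⟨c, hc⟩ := hi.dvd
  have h2 : aeval T ((X - C (1 : K)) ^ i) = 0 := by rw [hc, map_mul, minpoly.aeval, zero_mul]
  rw [map_pow, map_sub, aeval_X, map_one, map_one] at h2
  rw [show 2 ^ n - 1 = i + (2 ^ n - 1 - i) by omega, pow_add, h2, zero_mul]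

variable {V : Type v} [AddCommGroup V] [Module K V] {X : Type w} [Group X] [Finite X]
  {ρ : Representation K X V} {D : Subgroup X} {q : ℕ} [hq : Fact q.Prime] {χ : X → K}

namespace WeightCtx

variable (h : WeightCtx ρ D q χ)

/-- The elements inverted by `y` modulo the centre. -/
def inverted (y : X) : Subgroup X where
  carrier := {d | d ∈ D ∧ y * d * y⁻¹ * d ∈ centerIn D}
  one_mem' := ⟨one_mem D, by simp⟩
  mul_mem' := fun {a b} ha hb => ⟨mul_mem ha.1 hb.1, by
    have hn := h.normal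
    have e : y * (a * b) * y⁻¹ * (a * b) =
        (y * a * y⁻¹ * a) * ⁅a⁻¹, y * b * y⁻¹⁆ * (y * b * y⁻¹ * b) := by
      rw [commutatorElement_def]; group
    rw [e]
    exact mul_mem (mul_mem ha.2 (h.comm _ (inv_mem ha.1) _ (hn.conj_mem _ hb.1 y))) hb.2⟩
  inv_mem' := fun {a} ha => ⟨inv_mem ha.1, by
    have hn := h.normal
    have e : y * a⁻¹ * y⁻¹ * a⁻¹ = (⁅a, y * a * y⁻¹⁆ * (y * a * y⁻¹ * a))⁻¹ := by
      rw [commutatorElement_def]; group
    rw [e]
    exact inv_mem (mul_mem (h.comm _ ha.1 _ (hn.conj_mem _ ha.1 y)) ha.2)⟩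

theorem inverted_le (y : X) : h.inverted y ≤ D := fun _ hd => hd.1

theorem center_le_inverted (y : X) : centerIn D ≤ h.inverted y := fun z hz => by
  have := h.normal
  exact ⟨centerIn_le D hz, mul_mem ((centerIn_normal D).conj_mem z hz y) hz⟩

theorem mem_normalizer_inverted {g y : X} (hgy : g * y = y * g) :
    g ∈ normalizer (h.inverted y : Set X) := by
  refine mem_normalizer_of_conj_mem fun d hd => ⟨h.normal.conj_mem d hd.1 g, ?_⟩
  have := h.normal
  have h1 := (centerIn_normal D).conj_mem _ hd.2 g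
  convert h1 using 1
  calc y * (g * d * g⁻¹) * y⁻¹ * (g * d * g⁻¹) = (y * g) * d * (y * g)⁻¹ * (g * d * g⁻¹) := by group
    _ = (g * y) * d * (g * y)⁻¹ * (g * d * g⁻¹) := by rw [hgy]
    _ = _ := by group

theorem proj_inverted {g : charStabilizer (centerIn D) χ} (hg2 : g ^ 2 = 1) (hq2 : q ≠ 2) {d : D}
    (hd : (d : X) ∈ h.inverted g) : h.proj d ∈ disp (h.act g) := by
  have hodd := fun s => odd_orderOf hq2 h.space_pow s
  have hy : h.act g ^ 2 = 1 := by rw [← map_pow, hg2, map_one]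
  have hinv : h.act g (h.proj d) * h.proj d = 1 := by
    rw [h.act_proj, ← map_mul, h.proj_eq_one]
    refine h.center_le_orth ?_
    push_cast
    rw [h.conjD_apply]
    exact hd.2
  obtain ⟨c, hc, e, he, hce⟩ := exists_decomp hodd hy (h.proj d)
  rw [← hce, map_mul, mem_fixedSub.1 hc, apply_disp (hy := hy) he] at hinv
  have h1 : c ^ 2 = 1 := by
    rw [mul_mul_mul_comm, inv_mul_cancel, mul_one] at hinv
    rw [sq, hinv]
  rw [eq_one_of_sq (hodd c) h1, one_mul] at hce
  exact hce ▸ he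

theorem exists_inverted {g : charStabilizer (centerIn D) χ} (hg2 : g ^ 2 = 1) {s : h.Space}
    (hs : s ∈ disp (h.act g)) : ∃ d : D, (d : X) ∈ h.inverted g ∧ h.proj d = s := by
  obtain ⟨t, rfl⟩ := hs
  obtain ⟨e, rfl⟩ := h.proj_surjective t
  refine ⟨h.conjD g e * e⁻¹, ⟨SetLike.coe_mem _, ?_⟩, ?_⟩
  · have hgg : (g : X) * g = 1 := by rw [← sq]; exact congrArg Subtype.val hg2
    push_cast
    rw [h.conjD_apply]
    have e1 : (g : X) * ((g : X) * e * (g : X)⁻¹ * (e : X)⁻¹) * (g : X)⁻¹ * ((g : X) * e * (g : X)⁻¹ * (e : X)⁻¹)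
        = ((g : X) * g) * e * ((g : X) * g)⁻¹ * (e : X)⁻¹ := by group
    rw [e1, hgg]
    simp
  · rw [map_mul, map_inv, ← h.act_proj]; rfl

variable [IsAlgClosed K]

set_option maxHeartbeats 1000000 in
/-- The degree and the plane, on any representation where the centre acts by the weight, in any
characteristic other than `q`. -/
theorem deg_and_card_of_ne {n : ℕ} (hn : 1 ≤ n) (hq2 : q ≠ 2) (hqK : (q : K) ≠ 0) {g : charStabilizer (centerIn D) χ}
    (hgn : g ^ 2 ^ n = 1) {W : Type v} [AddCommGroup W] [Module K W] [FiniteDimensional K W]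
    [Nontrivial W] {H : Subgroup X} (hDH : h.inverted ((g ^ 2 ^ (n - 1) : charStabilizer (centerIn D) χ) : X) ≤ H)
    (hgH : (g : X) ∈ H) (σ : Representation K H W)
    (hσ : ∀ (z : X) (hz : z ∈ centerIn D),
      σ ⟨z, hDH (h.center_le_inverted _ hz)⟩ = χ z • (1 : Module.End K W))
    (hdeg : deg (σ ⟨g, hgH⟩) < 2 ^ n) (hmov : h.act (g ^ 2 ^ (n - 1)) ≠ 1) :
    q + 1 = 2 ^ n ∧ deg (σ ⟨g, hgH⟩) = q ∧ Nat.card (disp (h.act (g ^ 2 ^ (n - 1)))) = q ^ 2 := by
  classical
  have := h.normal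
  set gy := g ^ 2 ^ (n - 1) with hgy
  set y := (gy : X) with hy
  have hgy2 : gy ^ 2 = 1 := by rw [hgy, ← pow_mul, ← pow_succ, Nat.sub_add_cancel hn, hgn]
  have hY2 : h.act gy ^ 2 = 1 := by rw [← map_pow, hgy2, map_one]
  have hodd := fun s => odd_orderOf hq2 h.space_pow s
  have hycoe : y = (g : X) ^ 2 ^ (n - 1) := by rw [hy, hgy, SubgroupClass.coe_pow]
  have hgycomm : (g : X) * y = y * g := by rw [hycoe]; exact (Commute.self_pow _ _).eq
  set g' : H := ⟨g, hgH⟩ with hg'
  have hgn' : g' ^ 2 ^ n = 1 := Subtype.ext (by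
    have := congrArg Subtype.val hgn
    rw [SubgroupClass.coe_pow, Subgroup.coe_one] at this
    simpa [hg'] using this)
  have hg'y : g' ^ 2 ^ (n - 1) = ⟨y, by rw [hycoe]; exact pow_mem hgH _⟩ :=
    Subtype.ext (by simp [hg', hycoe])
  have hbeta : ∀ (a b : D) (ha : (a : X) ∈ H) (hb : (b : X) ∈ H),
      σ ⁅(⟨a, ha⟩ : H), ⟨b, hb⟩⁆ = (h.beta a b : K) • (1 : Module.End K W) := fun a b ha hb => by
    rw [beta, h.chiHom_apply]
    exact (congrArg σ (Subtype.ext rfl)).trans (hσ _ (h.comm _ a.2 _ b.2))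
  have hcommute : ∀ a b : H, σ ⁅a, b⁆ = 1 → σ (a * b) = σ (b * a) := fun a b e => by
    rw [show a * b = ⁅a, b⁆ * (b * a) by rw [commutatorElement_def]; group, map_mul, e, one_mul]
  -- the part of the radical inverted by `y` acts by scalars
  have hrad : ∀ (d : D) (hd : (d : X) ∈ h.inverted y), h.proj d = 1 →
      ∃ c : K, σ ⟨d, hDH hd⟩ = c • (1 : Module.End K W) := by
    intro d hd hd1
    let A : Subgroup H :=
      { carrier := {a | ∃ ha : (a : X) ∈ D, (a : X) ∈ h.inverted y ∧ (⟨a, ha⟩ : D) ∈ h.orth}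
        one_mem' := ⟨one_mem D, one_mem _, one_mem h.orth⟩
        mul_mem' := fun {a b} ha hb => ⟨mul_mem ha.1 hb.1, mul_mem ha.2.1 hb.2.1, h.orth.mul_mem ha.2.2 hb.2.2⟩
        inv_mem' := fun {a} ha => ⟨inv_mem ha.1, inv_mem ha.2.1, h.orth.inv_mem ha.2.2⟩ }
    have hAq : IsPGroup q A := by
      intro a
      obtain ⟨k, hk⟩ := h.isPGroup ⟨(a : H), a.2.1⟩
      exact ⟨k, Subtype.ext (Subtype.ext (by simpa using congrArg Subtype.val hk))⟩
    have hAn : g' ∈ normalizer (A : Set H) := mem_normalizer_of_conj_mem fun a ha => by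
      refine ⟨h.normal.conj_mem _ ha.1 g, conj_mem_of_mem_normalizer (h.mem_normalizer_inverted hgycomm) ha.2.1, ?_⟩
      intro b
      obtain ⟨b, rfl⟩ := (h.conjD g).surjective b
      rw [show (⟨((g' * a * g'⁻¹ : H) : X), _⟩ : D) = h.conjD g ⟨a, ha.1⟩ from
        Subtype.ext (by rw [h.conjD_apply]; simp [hg']), h.beta_conj g.2]
      exact ha.2.2 b
    have hAc : ∀ a ∈ A, ∀ b ∈ A, σ (a * b) = σ (b * a) := fun a ha b hb => hcommute a b (by
      refine (hbeta ⟨a, ha.1⟩ ⟨b, hb.1⟩ a.2 b.2).trans ?_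
      rw [ha.2.2, Units.val_one, one_smul])
    have hyA : ∀ a ∈ A, σ (g' ^ 2 ^ (n - 1) * a) = σ (a * g' ^ 2 ^ (n - 1)) := by
      intro a ha
      by_contra hne
      rcases boundHolds Nat.prime_two hq.out hq2.symm hqK _ σ rfl A g' n hAq hAn
          (by rw [hgn', map_one]) hn ⟨a, ha, hne⟩ with h1 | ⟨_, _, -, -, -, -, -, a1, ha1, b1, hb1, hne'⟩
      · exact absurd h1 (not_le.2 hdeg)
      · exact hne' (hAc a1 ha1 b1 hb1)
    have hdA : (⟨d, hDH hd⟩ : H) ∈ A := ⟨d.2, hd, h.proj_eq_one.1 hd1⟩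
    set dd : H := ⟨d, hDH hd⟩
    set yy : H := g' ^ 2 ^ (n - 1)
    have hfix : σ (yy * dd * yy⁻¹) = σ dd := by
      rw [map_mul, hyA dd hdA, ← map_mul, mul_inv_cancel_right]
    have hsq : σ dd * σ dd = χ (y * (d : X) * y⁻¹ * d) • (1 : Module.End K W) := by
      conv_lhs => arg 1; rw [← hfix]
      rw [← map_mul]
      refine (congrArg σ (Subtype.ext ?_)).trans (hσ _ hd.2)
      simp [yy, dd, hg'y]
    have hpow : σ dd ^ q = χ ((d : X) ^ q) • (1 : Module.End K W) := by
      rw [← map_pow]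
      exact (congrArg σ (Subtype.ext (by simp [dd]))).trans (hσ _ (h.pow _ d.2))
    obtain ⟨k, hk⟩ := hq.out.odd_of_ne_two hq2
    set c0 := χ (y * (d : X) * y⁻¹ * d)
    have hc0 : c0 ≠ 0 := fun e => by
      rw [e, zero_smul, ← map_mul] at hsq
      have h1 : σ (dd * dd) * σ (dd * dd)⁻¹ = 1 := by rw [← map_mul, mul_inv_cancel, map_one]
      rw [hsq, zero_mul] at h1
      exact zero_ne_one h1
    refine ⟨(c0 ^ k)⁻¹ * χ ((d : X) ^ q), ?_⟩
    rw [hk, pow_succ, pow_mul, sq, hsq, _root_.smul_pow, one_pow, smul_one_mul] at hpow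
    rw [mul_smul, hk, ← hpow, smul_smul, inv_mul_cancel₀ (pow_ne_zero k hc0), one_smul]
  -- pass to the image
  let θ := QuotientGroup.mk' σ.ker
  let σ' : Representation K (H ⧸ σ.ker) W := QuotientGroup.lift σ.ker σ le_rfl
  have hσ' : ∀ t, σ' (θ t) = σ t := fun t => QuotientGroup.lift_mk' _ _ t
  have hinj : Function.Injective σ' := by
    intro a b hab
    obtain ⟨a, rfl⟩ := QuotientGroup.mk'_surjective σ.ker a
    obtain ⟨b, rfl⟩ := QuotientGroup.mk'_surjective σ.ker b
    rw [hσ', hσ'] at hab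
    exact QuotientGroup.eq.2 (MonoidHom.mem_ker.2 (by
      rw [map_mul, ← hab, ← map_mul, inv_mul_cancel, map_one]))
  let J := h.inverted y
  let φ : J →* H ⧸ σ.ker := θ.comp (Subgroup.inclusion hDH)
  let toD : J →* D := Subgroup.inclusion (h.inverted_le y)
  let ψ : J →* disp (h.act gy) :=
    (h.proj.comp toD).codRestrict _ fun d => h.proj_inverted hgy2 hq2 d.2
  have hψs : Function.Surjective ψ := fun s => by
    obtain ⟨d, hd, hds⟩ := h.exists_inverted hgy2 s.2
    exact ⟨⟨d, hd⟩, Subtype.ext hds⟩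
  have hψcoe : ∀ d, (ψ d : h.Space) = h.proj (toD d) := fun d => rfl
  have hcomm : ∀ d d' : J, h.beta (toD d) (toD d') = 1 → φ d * φ d' = φ d' * φ d := by
    intro d d' e
    refine hinj ?_
    show σ' (θ (Subgroup.inclusion hDH d) * θ (Subgroup.inclusion hDH d')) =
      σ' (θ (Subgroup.inclusion hDH d') * θ (Subgroup.inclusion hDH d))
    rw [map_mul σ', map_mul σ', hσ', hσ', ← map_mul σ, ← map_mul σ]
    refine hcommute _ _ ((hbeta (toD d) (toD d') _ _).trans ?_)
    rw [e, Units.val_one, one_smul]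
  have hcenter : ∀ d : J, (⟨φ d, d, rfl⟩ : φ.range) ∈ center φ.range ↔ ψ d = 1 := by
    intro d
    constructor
    · intro hc
      refine Subtype.ext ?_
      rw [hψcoe, OneMemClass.coe_one]
      refine nondeg_disp hodd hY2 (h.act_preserves gy) (ψ d).2 fun s hs => ?_
      obtain ⟨d', hd'⟩ := hψs ⟨s, hs⟩
      rw [show s = h.proj (toD d') from (congrArg Subtype.val hd').symm, h.pairing_proj]
      refine Units.ext (smul_left_injective K (one_ne_zero : (1 : Module.End K W) ≠ 0) ?_)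
      show (h.beta (toD d) (toD d') : K) • (1 : Module.End K W) = ((1 : Kˣ) : K) • (1 : Module.End K W)
      rw [← hbeta _ _ (hDH d.2) (hDH d'.2), Units.val_one, one_smul, ← hσ', map_commutatorElement]
      have e1 : φ d * φ d' = φ d' * φ d :=
        congrArg Subtype.val (mem_center_iff.1 hc ⟨φ d', d', rfl⟩).symm
      exact (congrArg σ' (commutatorElement_eq_one_iff_mul_comm.2 e1)).trans (map_one σ')
    · intro e
      refine mem_center_iff.2 fun ⟨_, d', rfl⟩ => Subtype.ext (hcomm d' d ?_)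
      have h1 : toD d ∈ h.orth := h.proj_eq_one.1 (congrArg Subtype.val e)
      have h2 := h.beta_inv (toD d') (toD d)
      rwa [h1, mul_one] at h2
  have hclassTwo : ∀ a b : φ.range, ⁅a, b⁆ ∈ center φ.range := by
    rintro ⟨_, a, rfl⟩ ⟨_, b, rfl⟩
    rw [show (⁅(⟨φ a, a, rfl⟩ : φ.range), ⟨φ b, b, rfl⟩⁆ : φ.range) = ⟨φ ⁅a, b⁆, _, rfl⟩ from
      Subtype.ext ((congrArg Subtype.val rfl).trans (map_commutatorElement φ a b).symm), hcenter,
      map_commutatorElement, commutatorElement_eq_one_iff_mul_comm]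
    exact Subtype.ext (mul_comm _ _)
  have hQ : IsPGroup q J := h.isPGroup.to_le (h.inverted_le y)
  have hScal : ScalarQ σ' φ.range q :=
    { isPGroup := hQ.of_surjective φ.rangeRestrict φ.rangeRestrict_surjective
      classTwo := hclassTwo
      scalar := by
        rintro ⟨_, d, rfl⟩ hd
        obtain ⟨c, hc⟩ := hrad (toD d) d.2 (congrArg Subtype.val ((hcenter d).1 hd))
        exact ⟨c, (hσ' _).trans hc⟩
      faithful := fun s hs => Subtype.ext (hinj (hs.trans (map_one σ').symm))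
      nonabelian := fun e => hmov (MulEquiv.ext fun s => by
        obtain ⟨c, hc, p, hp, rfl⟩ := exists_decomp hodd hY2 s
        obtain ⟨d, hd⟩ := hψs ⟨p, hp⟩
        have h1 := (hcenter d).1 (e ▸ Subgroup.mem_top _)
        rw [h1] at hd
        rw [MulAut.one_apply, ← show (1 : h.Space) = p from congrArg Subtype.val hd, mul_one,
          mem_fixedSub.1 hc]) }
  have hxN : θ g' ∈ normalizer ((φ.range : Subgroup (H ⧸ σ.ker)) : Set (H ⧸ σ.ker)) :=
    mem_normalizer_of_conj_mem (by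
      rintro _ ⟨d, rfl⟩
      exact ⟨⟨_, conj_mem_of_mem_normalizer (h.mem_normalizer_inverted hgycomm) d.2⟩, by
        show θ _ = θ g' * θ _ * (θ g')⁻¹
        rw [← map_inv, ← map_mul, ← map_mul]
        exact congrArg θ (Subtype.ext rfl)⟩)
  obtain ⟨W', hWx, H', _, _, τ, S', y', e, hW'n, hcrit, hy', hyS, hconj, hirr⟩ := hScal.exists_critical hxN
  have hy'n : y' ^ 2 ^ n = 1 := hcrit.injective (by
    rw [map_pow, hy', map_one, Module.End.pow_restrict]
    refine LinearMap.ext fun w => Subtype.ext ?_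
    rw [LinearMap.coe_restrict_apply, ← map_pow, ← map_pow, hgn', map_one, map_one]
    rfl)
  have hfree : ∀ (u v : S') (i : ℕ), 0 < i → i < 2 ^ n → (v : H') = y' ^ i * u * (y' ^ i)⁻¹ →
      u⁻¹ * v ∈ center S' → u ∈ center S' := by
    intro u v i hi hiP hv huv
    obtain ⟨⟨_, d, rfl⟩, rfl⟩ := e.surjective u
    rw [hconj] at hv
    obtain rfl := Subtype.ext hv
    have hcen : ∀ a : φ.range, a ∈ center φ.range ↔ e a ∈ center S' := fun a => by
      rw [mem_center_iff, mem_center_iff]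
      refine ⟨fun ha b => ?_, fun ha b => e.injective (by rw [map_mul, map_mul, ha (e b)])⟩
      obtain ⟨b, rfl⟩ := e.surjective b
      rw [← map_mul, ← map_mul, ha b]
    rw [← map_inv, ← map_mul, ← hcen] at huv
    rw [← hcen]
    rw [hcenter]
    have hgi : (g : X) ^ i ∈ normalizer (h.inverted y : Set X) := pow_mem (h.mem_normalizer_inverted hgycomm) i
    let d' : J := ⟨_, conj_mem_of_mem_normalizer hgi d.2⟩
    have hd' : φ d' = θ g' ^ i * φ d * (θ g' ^ i)⁻¹ := by
      show θ _ = θ g' ^ i * θ _ * (θ g' ^ i)⁻¹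
      rw [← map_pow, ← map_inv, ← map_mul, ← map_mul]
      refine congrArg θ (Subtype.ext ?_)
      simp [d', hg']
    have h1 : ψ (d⁻¹ * d') = 1 := by
      rw [← hcenter]
      convert huv using 1
      refine Subtype.ext ?_
      push_cast
      rw [map_mul, map_inv, hd']
    rw [map_mul, map_inv, inv_mul_eq_one] at h1
    have hfix : h.act (g ^ i) (ψ d : h.Space) = ψ d := by
      have : h.act (g ^ i) (ψ d : h.Space) = (ψ d' : h.Space) := by
        rw [hψcoe, hψcoe, h.act_proj]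
        exact congrArg h.proj (Subtype.ext (by rw [h.conjD_apply]; simp [d', toD]))
      rw [this, ← h1]
    obtain ⟨j, hj⟩ := mem_zpowers_iff.1 (pow_mem_zpowers_of_pos_lt Nat.prime_two hgn hi hiP)
    have hyfix : h.act gy (ψ d : h.Space) = ψ d := by
      have h2 : h.act (g ^ i) ∈ MulAction.stabilizer (MulAut h.Space) (ψ d : h.Space) := hfix
      have h3 := zpow_mem h2 j
      rw [← map_zpow, hj] at h3
      exact h3
    exact Subtype.ext (disjoint_fixed_disp hodd hY2 (mem_fixedSub.2 hyfix) (ψ d).2)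
  have hdegle : deg (τ y') ≤ deg (σ g') := by
    rw [hy', ← hσ']
    exact deg_restrict_le hWx
  rcases hcrit.deg_bound_card hyS (Nat.one_lt_two_pow (by omega)) hy'n hfree hirr with
    hge | ⟨b, hb, hPb, hdb, hcard⟩
  · exact absurd (hge.trans hdegle) (not_le.2 hdeg)
  have hn2 : 2 ≤ n := by
    by_contra hn2
    obtain rfl : n = 1 := by omega
    rw [pow_one] at hPb
    have := le_self_pow₀ hq.out.one_lt.le (show b ≠ 0 by omega)
    have := hq.out.one_lt
    omega
  obtain rfl := eq_one_of_pow_add_one hq.out hq2 hn2 hPb.symm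
  rw [pow_one] at hPb hdb hcard
  refine ⟨hPb.symm, le_antisymm (by omega) (hdb ▸ hdegle), ?_⟩
  rw [← sq] at hcard
  rw [← hcard, ← card_center_quotient_congr e]
  have hk : ψ.ker = ((QuotientGroup.mk' (center φ.range)).comp φ.rangeRestrict).ker := by
    ext d
    rw [MonoidHom.mem_ker, MonoidHom.mem_ker, ← hcenter]
    exact (QuotientGroup.eq_one_iff _).symm
  rw [← Nat.card_congr (QuotientGroup.quotientKerEquivOfSurjective ψ hψs).toEquiv, hk,
    Nat.card_congr (QuotientGroup.quotientKerEquivOfSurjective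
      (φ := (QuotientGroup.mk' (center φ.range)).comp φ.rangeRestrict)
      ((QuotientGroup.mk'_surjective _).comp φ.rangeRestrict_surjective)).toEquiv]

theorem deg_and_card [CharP K 2] {n : ℕ} (hn : 1 ≤ n) (hq2 : q ≠ 2)
    {g : charStabilizer (centerIn D) χ}
    (hgn : g ^ 2 ^ n = 1) {W : Type v} [AddCommGroup W] [Module K W] [FiniteDimensional K W]
    [Nontrivial W] {H : Subgroup X} (hDH : h.inverted ((g ^ 2 ^ (n - 1) : charStabilizer (centerIn D) χ) : X) ≤ H)
    (hgH : (g : X) ∈ H) (σ : Representation K H W)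
    (hσ : ∀ (z : X) (hz : z ∈ centerIn D),
      σ ⟨z, hDH (h.center_le_inverted _ hz)⟩ = χ z • (1 : Module.End K W))
    (hdeg : deg (σ ⟨g, hgH⟩) < 2 ^ n) (hmov : h.act (g ^ 2 ^ (n - 1)) ≠ 1) :
    q + 1 = 2 ^ n ∧ deg (σ ⟨g, hgH⟩) = q ∧ Nat.card (disp (h.act (g ^ 2 ^ (n - 1)))) = q ^ 2 :=
  h.deg_and_card_of_ne hn hq2 (fun e => hq2
    ((Nat.prime_dvd_prime_iff_eq Nat.prime_two hq.out).1 ((CharP.cast_eq_zero_iff K 2 q).1 e)).symm)
    hgn hDH hgH σ hσ hdeg hmov

end WeightCtx

end CfsgLib.TwoLength
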